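import Cfsg.Agent.Lib.Block.AbelianTwo.Main
import Cfsg.Agent.Lib.Char.SecNineMain
import Cfsg.Agent.Lib.Transfer.CIT.Plane

/-!
Small abelian Sylow 2-subgroups with an involution whose centralizer has rank one; prime index.
-/

set_option autoImplicit false
set_option linter.unusedSectionVars false
set_option linter.style.haveILetI false

namespace Cfsg.Agent.Block.AbTwo

open Cfsg Cfsg.Agent.Block Cfsg.Agent.Char.BP Cfsg.Agent.Char.SecInner Cfsg.Agent.Transfer

universe u

variable {G : Type u} [Group G] [Finite G] {M : Ideal AlgInt} {P : Sylow 2 G}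

theorem normal_CS_subgroupOf (P : Sylow 2 G) : ((CS P).subgroupOf (NS P)).Normal :=
  ⟨fun c hc m => mem_CS_of_fix fun w hw => by
    have h1 := CS_fix hc (NS_mem (inv_mem m.2) hw)
    simp only [Subgroup.coe_mul, Subgroup.coe_inv, Subgroup.coe_subtype, inv_inv] at h1 ⊢
    calc (m : G) * c * (m : G)⁻¹ * w * ((m : G) * c * (m : G)⁻¹)⁻¹ =
          (m : G) * ((c : G) * ((m : G)⁻¹ * w * (m : G)) * (c : G)⁻¹) * (m : G)⁻¹ := by group
      _ = w := by rw [h1]; group⟩

theorem quot_of_comm (h : ∀ (_ : ((CS P).subgroupOf (NS P)).Normal)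
    (x y : NS P ⧸ (CS P).subgroupOf (NS P)), x * y = y * x) :
    ∀ a ∈ NS P, ∀ b ∈ NS P, a * b * a⁻¹ * b⁻¹ ∈ CS P := by
  intro a ha b hb
  haveI := normal_CS_subgroupOf P
  have h1 : (((⟨a, ha⟩ : NS P) * ⟨b, hb⟩ * (⟨a, ha⟩ : NS P)⁻¹ * (⟨b, hb⟩ : NS P)⁻¹ : NS P) :
      NS P ⧸ (CS P).subgroupOf (NS P)) = 1 := by
    rw [QuotientGroup.mk_mul, QuotientGroup.mk_mul, QuotientGroup.mk_mul, QuotientGroup.mk_inv,
      QuotientGroup.mk_inv, h this (⟨a, ha⟩ : NS P) (⟨b, hb⟩ : NS P)]
    group
  exact Subgroup.mem_subgroupOf.1 ((QuotientGroup.eq_one_iff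
    ((⟨a, ha⟩ : NS P) * ⟨b, hb⟩ * (⟨a, ha⟩ : NS P)⁻¹ * (⟨b, hb⟩ : NS P)⁻¹)).1 h1)

/-- A prime inertial index gives semi-freeness. -/
theorem semi_of_prime (hab : IsMulCommutative (P : Subgroup G)) (he : (idx P).Prime) : Semi P := by
  refine ⟨hab, fun hle => he.ne_one (Subgroup.relIndex_eq_one.2 hle), quot_of_comm fun _ x y => ?_,
    fun t ht htC v hv e => ?_⟩
  · haveI : IsCyclic (NS P ⧸ (CS P).subgroupOf (NS P)) :=
      isCyclic_of_prime_card (hp := ⟨he⟩) rfl
    exact (IsCyclic.commGroup (α := NS P ⧸ (CS P).subgroupOf (NS P))).mul_comm x y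
  · set S := NS P ⊓ Subgroup.centralizer ({v} : Set G) with hS
    have hCS : CS P ≤ S := le_inf (CS_le_NS P) (Subgroup.centralizer_le (Set.singleton_subset_iff.2 hv))
    have htS : t ∈ S := ⟨ht, Subgroup.mem_centralizer_singleton_iff.2 (mul_inv_eq_iff_eq_mul.1 e)⟩
    have hmul := Subgroup.relIndex_mul_relIndex (CS P) S (NS P) hCS inf_le_left
    have hne : (CS P).relIndex S ≠ 1 := fun h1 => htC (Subgroup.relIndex_eq_one.1 h1 htS)
    have h1 : S.relIndex (NS P) = 1 := by
      have hprime : ((CS P).relIndex S * S.relIndex (NS P)).Prime := by rw [hmul]; exact he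
      rcases Nat.prime_mul_iff.1 hprime with ⟨-, h⟩ | ⟨-, h⟩
      · exact h
      · exact absurd h hne
    intro s hs
    exact mul_inv_eq_iff_eq_mul.2
      (Subgroup.mem_centralizer_singleton_iff.1 (Subgroup.relIndex_eq_one.1 h1 hs).2)

/-- Prime inertial index. -/
theorem prime_index (hab : IsMulCommutative (P : Subgroup G)) (he : (idx P).Prime)
    (hM : IsPModular 2 M) :
    blockRank 2 (principalBlock M G) = idx P ∧
      (¬ Group.IsSolvable G → Nat.card (principalBlock M G) = Nat.card (P : Subgroup G)) := by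
  have h := semi_of_prime hab he
  obtain ⟨h1, h2⟩ := h.main hM
  refine ⟨h1, fun hns => ?_⟩
  have hc := h.card_principal hM
  rw [h2.resolve_left hns] at hc ⊢
  refine Nat.eq_of_mul_eq_mul_right he.pos ?_
  linarith

/-- The regular orbit of an involution with nilpotent principal block of centralizer. -/
theorem exists_regular (hab : IsMulCommutative (P : Subgroup G)) (hM : IsPModular 2 M) {x : G}
    (hx : orderOf x = 2)
    (hl : blockRank 2 (principalBlock M (Subgroup.centralizer ({x} : Set G))) = 1) :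
    ∃ y ∈ (P : Subgroup G), orderOf y = 2 ∧ ∀ t ∈ NS P, t * y * t⁻¹ = y → t ∈ CS P := by
  classical
  haveI : Fact (Nat.Prime 2) := ⟨Nat.prime_two⟩
  cases nonempty_fintype G
  obtain ⟨g, hg⟩ := exists_mem_sylow P hx
  set y := g * x * g⁻¹ with hy
  have hy2 : orderOf y = 2 := by rw [hy, ← MulAut.conj_apply, MulEquiv.orderOf_eq, hx]
  have hc : HasNormalPComplement 2 (Subgroup.centralizer ({y} : Set G)) := by
    have h0 := complement_of_rank_one hM hl
    refine complement_conj (g := g⁻¹) ?_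
    rw [show g⁻¹ * y * g⁻¹⁻¹ = x by rw [hy]; group]
    exact h0
  refine ⟨y, hg, hy2, fun t ht e => mem_CS_of_fix fun v hv => ?_⟩
  have hPC : (P : Subgroup G) ≤ Subgroup.centralizer ({y} : Set G) := fun a ha =>
    Subgroup.mem_centralizer_singleton_iff.2
      (congrArg Subtype.val (hab.is_comm.comm ⟨a, ha⟩ ⟨y, hg⟩))
  have habC : IsMulCommutative ↥((P.subtype hPC : Sylow 2 _) :
      Subgroup (Subgroup.centralizer ({y} : Set G))) :=
    ⟨⟨fun a b => Subtype.ext (Subtype.ext
      (congrArg Subtype.val (hab.is_comm.comm ⟨_, a.2⟩ ⟨_, b.2⟩) :))⟩⟩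
  have := eq_of_complement (P.subtype hPC) habC hc (v := ⟨v, hPC hv⟩)
    (w := ⟨t * v * t⁻¹, hPC (NS_mem ht hv)⟩) hv (NS_mem ht hv)
    (isConj_iff.2 ⟨⟨t, Subgroup.mem_centralizer_singleton_iff.2 (mul_inv_eq_iff_eq_mul.1 e)⟩, rfl⟩)
  exact (congrArg Subtype.val this).symm

theorem commute_fifteen {K : Type*} [Group K] [Finite K] (hK : Nat.card K = 15) (a b : K) :
    a * b = b * a := by
  obtain ⟨x, hx⟩ := exists_prime_orderOf_dvd_card' (G := K) (p := 5) (hp := ⟨by norm_num⟩)
    (hK ▸ by norm_num)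
  obtain ⟨y, hy⟩ := exists_prime_orderOf_dvd_card' (G := K) (p := 3) (hp := ⟨by norm_num⟩)
    (hK ▸ by norm_num)
  have hc : Commute x y := (Cfsg.Agent.Transfer.CIT.commute_of_card_fifteen hK hx hy).symm
  haveI : IsCyclic K := isCyclic_of_orderOf_eq_card (x * y) (by
    rw [hc.orderOf_mul_eq_mul_orderOf_of_coprime (by rw [hx, hy]; norm_num), hx, hy, hK])
  exact (IsCyclic.commGroup (α := K)).mul_comm a b

theorem idx_odd (hab : IsMulCommutative (P : Subgroup G)) : ¬ 2 ∣ idx P := fun hd => by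
  haveI : Fact (Nat.Prime 2) := ⟨Nat.prime_two⟩
  have hle : (P : Subgroup G) ≤ CS P := fun a ha => Subgroup.mem_centralizer_iff.2 fun b hb =>
    congrArg Subtype.val (hab.is_comm.comm ⟨b, hb⟩ ⟨a, ha⟩)
  refine P.not_dvd_index (hd.trans ?_)
  have h1 := Subgroup.relIndex_mul_relIndex (P : Subgroup G) (CS P) (NS P) hle (CS_le_NS P)
  have h2 := Subgroup.relIndex_mul_index (H := (P : Subgroup G)) (K := NS P)
    (hle.trans (CS_le_NS P))
  exact (Dvd.intro_left _ h1).trans (Dvd.intro _ h2)

/-- Trivial automizer. -/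
theorem card_principal_one (hab : IsMulCommutative (P : Subgroup G)) (he : idx P = 1)
    (hM : IsPModular 2 M) :
    Nat.card (principalBlock M G) = Nat.card (P : Subgroup G) := by
  classical
  haveI : Fact (Nat.Prime 2) := ⟨Nat.prime_two⟩
  cases nonempty_fintype G
  have hle : NS P ≤ CS P := Subgroup.relIndex_eq_one.1 he
  have hk := card_eq_traces hM P (M := M)
  rw [Finset.sum_congr rfl (g := fun _ => (1 : ℂ)) fun v hv => ?_, Finset.sum_const,
    nsmul_eq_mul, mul_one, Nat.cast_inj, ← Fintype.card_subtype] at hk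
  · rw [hk, ← Nat.card_eq_fintype_card]
  · have hvP : v ∈ (P : Subgroup G) := (Finset.mem_filter.1 hv).2
    rw [rank_one_of_complement hM (complement_cent P hab hvP fun t ht _ => hle ht),
      cnum_eq_of_free hab hvP (fun t ht _ => hle ht), he, Nat.cast_one, div_one]

/-- An abelian Sylow subgroup of order 8 or 16 with a regular orbit of involutions. -/
theorem small_count (hab : IsMulCommutative (P : Subgroup G)) (hM : IsPModular 2 M) {y : G}
    (hyP : y ∈ (P : Subgroup G)) (hy : orderOf y = 2)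
    (hreg : ∀ t ∈ NS P, t * y * t⁻¹ = y → t ∈ CS P) :
    (Nat.card (P : Subgroup G) = 8 → Nat.card (principalBlock M G) = 8) ∧
    (Nat.card (P : Subgroup G) = 16 →
      Nat.card (principalBlock M G) = 8 ∨ Nat.card (principalBlock M G) = 16) := by
  classical
  haveI : Fact (Nat.Prime 2) := ⟨Nat.prime_two⟩
  cases nonempty_fintype G
  let Ω : Subgroup G :=
    { carrier := {a | a ∈ (P : Subgroup G) ∧ a ^ 2 = 1}
      one_mem' := ⟨one_mem _, one_pow 2⟩
      mul_mem' := fun {a b} ha hb => ⟨mul_mem ha.1 hb.1, by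
        rw [(show Commute a b from congrArg Subtype.val
          (hab.is_comm.comm ⟨a, ha.1⟩ ⟨b, hb.1⟩)).mul_pow, ha.2, hb.2, one_mul]⟩
      inv_mem' := fun {a} ha => ⟨inv_mem ha.1, by rw [inv_pow, ha.2, inv_one]⟩ }
  have hΩle : Ω ≤ (P : Subgroup G) := fun a ha => ha.1
  have hy1 : y ≠ 1 := fun e => by rw [e, orderOf_one] at hy; omega
  -- the orbit
  have hbound : idx P + 1 ≤ Nat.card Ω := by
    rw [← cnum_eq_of_free hab hyP hreg, cnum, Nat.card_eq_fintype_card, Fintype.card_subtype,
      ← Finset.card_insert_of_notMem (a := (1 : G))]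
    · refine Finset.card_le_card fun w hw => ?_
      simp only [Finset.mem_insert, Finset.mem_filter, Finset.mem_univ, true_and] at hw ⊢
      rcases hw with rfl | ⟨hw, hc⟩
      · exact Ω.one_mem
      · obtain ⟨g, rfl⟩ := isConj_iff.1 hc
        exact ⟨hw, by rw [conj_pow, ← hy, pow_orderOf_eq_one, mul_one, mul_inv_cancel]⟩
    · simp only [Finset.mem_filter, Finset.mem_univ, true_and, not_and]
      exact fun _ hc => hy1 (isConj_one_left.1 hc)
  have hodd := idx_odd hab
  have hΩdvd : Nat.card Ω ∣ Nat.card (P : Subgroup G) := Subgroup.card_dvd_of_le hΩle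
  have hΩbound : Nat.card Ω ≤ Nat.card (P : Subgroup G) := Subgroup.card_le_of_le hΩle
  have hpos : 0 < idx P := Nat.pos_of_ne_zero Subgroup.index_ne_zero_of_finite
  -- elementary when the orbit is large
  have helem : Nat.card (P : Subgroup G) = 16 → 9 ≤ idx P → Ω = (P : Subgroup G) := fun h16 h9 => by
    refine Subgroup.eq_of_le_of_card_ge hΩle ?_
    rw [h16] at hΩdvd ⊢
    have : Nat.card Ω ∣ 2 ^ 4 := hΩdvd
    obtain ⟨i, hi, hie⟩ := (Nat.dvd_prime_pow Nat.prime_two).1 this
    interval_cases i <;> omega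
  -- prime index
  have hprime : (idx P).Prime → ∃ f : ℕ, f ∣ Nat.card (P : Subgroup G) ∧
      f ≠ Nat.card (P : Subgroup G) ∧
      Nat.card (principalBlock M G) * idx P + f = idx P * idx P * f + Nat.card (P : Subgroup G) := by
    intro he
    have h := semi_of_prime hab he
    refine ⟨_, Subgroup.card_dvd_of_le inf_le_left, fun e => h.nontriv ?_, h.card_principal hM⟩
    have heq : fixF P = (P : Subgroup G) := Subgroup.eq_of_le_of_card_ge inf_le_left e.ge
    exact fun s hs => mem_CS_of_fix fun v hv => (mem_fixF.1 (heq ▸ hv)).2 s hs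
  constructor
  · intro h8
    have he : idx P ≤ 7 := by omega
    by_cases h1 : idx P = 1
    · rw [card_principal_one hab h1 hM, h8]
    obtain ⟨f, hf, hfne, heq⟩ := hprime (by
      rcases (by omega : idx P = 3 ∨ idx P = 5 ∨ idx P = 7) with e | e | e <;> rw [e] <;> norm_num)
    rw [h8] at hf hfne heq
    obtain ⟨i, hi, rfl⟩ := (Nat.dvd_prime_pow Nat.prime_two).1 (show f ∣ 2 ^ 3 from hf)
    rcases (by omega : idx P = 3 ∨ idx P = 5 ∨ idx P = 7) with e | e | e <;> rw [e] at heq <;>
      interval_cases i <;> omega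
  · intro h16
    have he : idx P ≤ 15 := by omega
    by_cases h1 : idx P = 1
    · right; rw [card_principal_one hab h1 hM, h16]
    by_cases h9 : idx P = 9
    · right
      have hΩP := helem h16 (by omega)
      refine (sixteen_nine hM P h16 (fun v hv => ?_) h9).1
      have := (hΩP ▸ hv : v ∈ Ω).2
      rwa [pow_two] at this
    by_cases h15 : idx P = 15
    · right
      have hΩP := helem h16 (by omega)
      have horb : ∀ v ∈ (P : Subgroup G), v ≠ 1 → ∃ n ∈ NS P, n * y * n⁻¹ = v := by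
        intro v hv hv1
        have hsub : (Finset.univ.filter fun w : G => w ∈ (P : Subgroup G) ∧ IsConj y w) =
            (Finset.univ.filter fun w : G => w ∈ (P : Subgroup G)).erase 1 := by
          refine Finset.eq_of_subset_of_card_le (fun w hw => ?_) ?_
          · simp only [Finset.mem_filter, Finset.mem_univ, true_and, Finset.mem_erase] at hw ⊢
            exact ⟨fun e => hy1 (isConj_one_left.1 (e ▸ hw.2)), hw.1⟩
          · rw [Finset.card_erase_of_mem (by simp), ← Fintype.card_subtype,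
              ← Nat.card_eq_fintype_card]
            show Nat.card (P : Subgroup G) - 1 ≤ cnum P y
            rw [cnum_eq_of_free hab hyP hreg, h15, h16]
        have hvm : v ∈ Finset.univ.filter fun w : G => w ∈ (P : Subgroup G) ∧ IsConj y w := by
          rw [hsub]; simp [hv, hv1]
        obtain ⟨g, hg⟩ := isConj_iff.1 (Finset.mem_filter.1 hvm).2.2
        obtain ⟨n, hn, hne⟩ := exists_normalizer_conj_of_abelian P hab hyP (g := g)
          (by rw [hg]; exact hv)
        exact ⟨n, hn, hne.trans hg⟩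
      have hfree : ∀ t ∈ NS P, t ∉ CS P → ∀ v ∈ (P : Subgroup G), t * v * t⁻¹ = v → v = 1 := by
        intro t ht htC v hv e
        by_contra hv1
        obtain ⟨n, hn, rfl⟩ := horb v hv hv1
        have h2 := hreg (n⁻¹ * t * n) (mul_mem (mul_mem (inv_mem hn) ht) hn) (by
          calc n⁻¹ * t * n * y * (n⁻¹ * t * n)⁻¹ = n⁻¹ * (t * (n * y * n⁻¹) * t⁻¹) * n := by group
            _ = y := by rw [e]; group)
        haveI := normal_CS_subgroupOf P
        refine htC ?_
        have h3 := (normal_CS_subgroupOf P).conj_mem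
          (⟨n⁻¹ * t * n, mul_mem (mul_mem (inv_mem hn) ht) hn⟩ : NS P) h2 ⟨n, hn⟩
        rw [Subgroup.mem_subgroupOf] at h3
        simpa [mul_assoc] using h3
      have h : Semi P := by
        refine ⟨hab, fun hle => h1 (Subgroup.relIndex_eq_one.2 hle), quot_of_comm fun _ x w => ?_,
          fun t ht htC v hv e s _ => by rw [hfree t ht htC v hv e, mul_one, mul_inv_cancel]⟩
        exact commute_fifteen h15 x w
      have hF : fixF P = ⊥ := (Subgroup.eq_bot_iff_forall _).2 fun v hv => by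
        obtain ⟨t, ht, htC⟩ := SetLike.not_le_iff_exists.1 h.nontriv
        exact hfree t ht htC v (mem_fixF.1 hv).1 ((mem_fixF.1 hv).2 t ht)
      have hc := h.card_principal hM
      rw [hF, Subgroup.card_bot, h15, h16] at hc
      omega
    obtain ⟨f, hf, hfne, heq⟩ := hprime (by
      rcases (by omega : idx P = 3 ∨ idx P = 5 ∨ idx P = 7 ∨ idx P = 11 ∨ idx P = 13) with
        e | e | e | e | e <;> rw [e] <;> norm_num)
    rw [h16] at hf hfne heq
    obtain ⟨i, hi, rfl⟩ := (Nat.dvd_prime_pow Nat.prime_two).1 (show f ∣ 2 ^ 4 from hf)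
    rcases (by omega : idx P = 3 ∨ idx P = 5 ∨ idx P = 7 ∨ idx P = 11 ∨ idx P = 13) with
      e | e | e | e | e <;> rw [e] at heq <;> interval_cases i <;> omega

end Cfsg.Agent.Block.AbTwo
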