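import Cfsg.Agent.Lib.Block.PrincipalColumn
import Cfsg.Prelude.Def_BlockRank

/-!
The regular rank of the principal block modulo a normal subgroup of order prime to `p`, and
transport of the principal block along isomorphisms.
-/

set_option autoImplicit false
set_option linter.unusedSectionVars false
set_option linter.style.haveILetI false

namespace Cfsg.Agent.Block.AbTwo

open Cfsg Cfsg.Agent.Block Cfsg.Agent.Block.PrinCol

universe u v

variable {G : Type u} [Group G] [Finite G] {p : ℕ} [Fact p.Prime] {M : Ideal AlgInt}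

/-- A normal subgroup of order prime to `p` does not change the rank of the principal block. -/
theorem rank_quotient (hM : IsPModular p M) (N : Subgroup G) [N.Normal]
    (hN : ¬ p ∣ Nat.card N) :
    blockRank p (principalBlock M G) = blockRank p (principalBlock M (G ⧸ N)) := by
  classical
  cases nonempty_fintype G
  letI := Fintype.ofFinite (G ⧸ N)
  let L : (G ⧸ N → ℂ) →ₗ[ℂ] (G → ℂ) :=
    { toFun := fun f g => f (g : G ⧸ N)
      map_add' := fun _ _ => rfl
      map_smul' := fun _ _ => rfl }
  have hreg : ∀ g : G, p ∣ orderOf g ↔ p ∣ orderOf (g : G ⧸ N) := by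
    intro g
    refine ⟨fun h => ?_, fun h => h.trans (orderOf_map_dvd (QuotientGroup.mk' N) g)⟩
    have hmem : g ^ orderOf (g : G ⧸ N) ∈ N := by
      rw [← QuotientGroup.eq_one_iff, QuotientGroup.mk_pow]
      exact pow_orderOf_eq_one _
    have hdvd : orderOf g ∣ orderOf (g : G ⧸ N) * Nat.card N := by
      refine orderOf_dvd_of_pow_eq_one ?_
      rw [pow_mul]
      exact congrArg Subtype.val (pow_card_eq_one' (x := (⟨_, hmem⟩ : N)))
    exact ((Fact.out : p.Prime).dvd_mul.1 (h.trans hdvd)).resolve_right hN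
  have hL : ∀ ψ : IrrCharacter (G ⧸ N), L (pRegularPart p (ψ : G ⧸ N → ℂ)) =
      pRegularPart p (infl ψ : G → ℂ) := fun ψ => funext fun g => by
    show pRegularPart p (ψ : G ⧸ N → ℂ) (g : G ⧸ N) = _
    unfold pRegularPart IsPRegular
    by_cases hg : p ∣ orderOf g <;> simp [hg, (hreg g).symm, infl]
  have himg : (fun χ : IrrCharacter G => pRegularPart p (χ : G → ℂ)) '' principalBlock M G =
      L '' ((fun ψ : IrrCharacter (G ⧸ N) => pRegularPart p (ψ : G ⧸ N → ℂ)) ''
        principalBlock M (G ⧸ N)) := by
    ext F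
    constructor
    · rintro ⟨χ, hχ, rfl⟩
      obtain ⟨ψ, hψ, hval⟩ := Cfsg.Agent.Char.IsIrr.exists_factor_quotient χ.2 N
        (fun k hk => principal_ker_of_coprime hM hN hχ hk)
      have he : infl (⟨ψ, hψ⟩ : IrrCharacter (G ⧸ N)) = χ := Subtype.ext (funext hval)
      exact ⟨_, ⟨⟨ψ, hψ⟩, (infl_mem_iff hM hN _).1 (by rwa [he]), rfl⟩, by
        rw [hL, he]⟩
    · rintro ⟨_, ⟨ψ, hψ, rfl⟩, rfl⟩
      exact ⟨infl ψ, (infl_mem_iff hM hN ψ).2 hψ, (hL ψ).symm⟩
  have hinj : Function.Injective L := fun a b h => funext fun q => by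
    obtain ⟨g, rfl⟩ := QuotientGroup.mk_surjective q
    exact congrFun h g
  unfold blockRank
  rw [himg, Submodule.span_image]
  exact (Submodule.equivMapOfInjective L hinj _).symm.finrank_eq

/-- The size of the principal block is invariant under isomorphisms. -/
theorem card_principal_congr {H : Type v} [Group H] [Finite H] (hM : IsPModular p M)
    (e : G ≃* H) : Nat.card (principalBlock M G) = Nat.card (principalBlock M H) := by
  classical
  cases nonempty_fintype G
  cases nonempty_fintype H
  let pull : IrrCharacter H → IrrCharacter G := fun ψ => ⟨fun g => (ψ : H → ℂ) (e g),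
    Cfsg.Agent.Char.IsIrr.comp_surjective e.toMonoidHom e.surjective ψ.2⟩
  let push : IrrCharacter G → IrrCharacter H := fun χ => ⟨fun h => (χ : G → ℂ) (e.symm h),
    Cfsg.Agent.Char.IsIrr.comp_surjective e.symm.toMonoidHom e.symm.surjective χ.2⟩
  have h1 : ∀ χ, pull (push χ) = χ := fun χ => Subtype.ext (funext fun g => by simp [pull, push])
  have h2 : ∀ ψ, push (pull ψ) = ψ := fun ψ => Subtype.ext (funext fun g => by simp [pull, push])
  refine Nat.card_congr (Equiv.subtypeEquiv ⟨push, pull, h1, h2⟩ fun χ => ?_)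
  show χ ∈ principalBlock M G ↔ push χ ∈ principalBlock M H
  rw [mem_principal_iff hM, mem_principal_iff hM]
  have : regTot p (χ : G → ℂ) = regTot p (push χ : H → ℂ) := by
    simp only [regTot, Finset.sum_filter]
    exact Fintype.sum_equiv e.toEquiv _ _ fun g => by simp [push]
  rw [this]

end Cfsg.Agent.Block.AbTwo
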