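import Cfsg.Agent.Lib.Block.HomocyclicTwo

/-!
A Sylow 2-subgroup with three involutions, of order at least 16, with nontrivial free automizer
is normal when the odd core is trivial (the argument of `homocyclic_normal`, stated for
`TwoRankTwo`).
-/

set_option autoImplicit false
set_option linter.unusedSectionVars false
set_option linter.style.haveILetI false

namespace Cfsg.Agent.Block.AbTwo

open Cfsg Cfsg.Agent.Block
open scoped IsMulCommutative

universe u

variable {G : Type u} [Group G] [Finite G]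

theorem twoRankTwo_normal (P : Sylow 2 G) [hab : IsMulCommutative (P : Subgroup G)]
    (h : TwoRankTwo P) (hbig : 16 ≤ Nat.card (P : Subgroup G))
    (hO : ∀ N : Subgroup G, N.Normal → Odd (Nat.card N) → N = ⊥) :
    (P : Subgroup G).Normal := by
  classical
  haveI : Fact (Nat.Prime 2) := ⟨Nat.prime_two⟩
  have hPC : (P : Subgroup G) ≤ Subgroup.centralizer (P : Set G) := fun x hx =>
    Subgroup.mem_centralizer_iff.2 fun w hw =>
      congrArg Subtype.val (mul_comm (⟨w, hw⟩ : (P : Subgroup G)) ⟨x, hx⟩)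
  rcases h.automizer with hNC | ⟨g, hgN, hgen, hrel, -⟩
  · have htop := sylow_top_of_central hO hNC
    rw [htop]; infer_instance
  obtain ⟨M, hM⟩ := Cfsg.Agent.Char.exists_isPModular 2 Nat.prime_two
  have hfrob : ∀ y : G, y ∈ (P : Subgroup G) → y ≠ 1 → Subgroup.centralizer ({y} : Set G) ⊓
      Subgroup.normalizer ((P : Subgroup G) : Set G) =
      Subgroup.centralizer ((P : Subgroup G) : Set G) := fun y hy hy1 =>
    le_antisymm (fun n hn => h.free hn.2 hy hy1 (Subgroup.mem_centralizer_singleton_iff.1 hn.1))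
      (le_inf (Subgroup.centralizer_le (Set.singleton_subset_iff.2 hy))
        (Subgroup.centralizer_le_normalizer _))
  obtain ⟨F⟩ := exists_freeThree P hrel ⟨g, hgN, hgen⟩ hfrob
  obtain ⟨χ, hχB, hχ1, hdeg, hχP⟩ := h.exists_linear hM F hbig
  obtain ⟨l, hl⟩ := Cfsg.Agent.Char.linearHom_of_isCharacter (irr_isChar χ) hdeg
  set K := l.ker with hK
  have hmemK : ∀ g, g ∈ K ↔ (χ : G → ℂ) g = 1 := fun g => by
    rw [hK, MonoidHom.mem_ker, congrFun hl g]
    exact ⟨fun e => by rw [e]; rfl, fun e => Units.ext (by simpa using e)⟩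
  have hPK : (P : Subgroup G) ≤ K := fun y hy => (hmemK y).2 (by
    by_cases hy1 : y = 1
    · rw [hy1, hdeg]
    · exact hχP y hy hy1)
  obtain ⟨y, hy, hy1⟩ : ∃ y ∈ (P : Subgroup G), y ≠ 1 := by
    obtain ⟨a, ha, -, -, ha1, -⟩ := id h
    exact ⟨a, ha, ha1⟩
  obtain ⟨Kc, kc, hKn, hKc, hidx, -, -⟩ := abelian_centralizer_complement P hy
    (by rw [inf_comm]; exact (hfrob y hy hy1).le)
  haveI := hKn
  -- odd elements centralizing `P` lie in the kernel
  have hCK : Subgroup.centralizer (P : Set G) ≤ K := by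
    intro c hc
    obtain ⟨u, v, huv, -, ⟨k, hk⟩, hv, hu', hv'⟩ := exists_pPart_zpowers (p := 2) c
    have hcN : c ∈ Subgroup.normalizer ((P : Subgroup G) : Set G) :=
      Subgroup.centralizer_le_normalizer _ hc
    have huK := hPK (pPart_mem_of_normalizer P hk (Subgroup.zpowers_le.2 hcN hu'))
    have hvC : v ∈ Subgroup.centralizer ({y} : Set G) := Subgroup.mem_centralizer_singleton_iff.2
      (Subgroup.mem_centralizer_iff.1 (Subgroup.zpowers_le.2 hc hv') y hy).symm
    have hv2 : ¬ 2 ∣ orderOf (⟨v, hvC⟩ : Subgroup.centralizer ({y} : Set G)) := by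
      rwa [← Subgroup.orderOf_coe]
    have hs := principal_section_const hM (pPow_of_mem P.isPGroup' hy) hKc hv2
      (regular_mem_of_index_pPow hidx hv2) hχB
    have hyv : y * v ∈ K := (hmemK _).2 (by rw [hs]; exact hχP y hy hy1)
    have hvK : v ∈ K := by
      simpa using mul_mem (inv_mem (hPK hy)) hyv
    rw [← huv]
    exact mul_mem huK hvK
  have hgK : g ∉ K := by
    intro hgK
    have hNK : Subgroup.normalizer ((P : Subgroup G) : Set G) ≤ K := by
      rw [← hgen]; exact sup_le hCK (Subgroup.zpowers_le.2 hgK)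
    have hKtop : K = ⊤ := by
      haveI : K.Normal := MonoidHom.normal_ker l
      have hF := Sylow.normalizer_sup_eq_top (P.subtype hPK)
      rw [Sylow.coe_subtype, Subgroup.subgroupOf_map_subtype, inf_eq_left.2 hPK] at hF
      exact eq_top_iff.2 (hF ▸ sup_le hNK le_rfl)
    exact hχ1 (Subtype.ext (funext fun x => (hmemK x).1 (hKtop ▸ Subgroup.mem_top x)))
  haveI hKnorm : K.Normal := MonoidHom.normal_ker l
  have hKN : K ⊓ Subgroup.normalizer ((P : Subgroup G) : Set G) ≤
      Subgroup.centralizer ((P : Subgroup G) : Set G) := by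
    have hC1 : Subgroup.centralizer ((P : Subgroup G) : Set G) ≤
        K ⊓ Subgroup.normalizer ((P : Subgroup G) : Set G) :=
      le_inf hCK (Subgroup.centralizer_le_normalizer _)
    have hmul := Subgroup.relIndex_mul_relIndex _ _ _ hC1 inf_le_right
    rw [hrel] at hmul
    rcases (Nat.dvd_prime Nat.prime_three).1 ⟨_, hmul.symm⟩ with h1 | h1
    · exact Subgroup.relIndex_eq_one.1 h1
    · rw [h1] at hmul
      exact absurd (Subgroup.relIndex_eq_one.1
        (Nat.eq_of_mul_eq_mul_left (by norm_num) (hmul.trans (mul_one 3).symm)) hgN).1 hgK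
  set PK : Sylow 2 K := P.subtype hPK with hPKdef
  have hNKC : Subgroup.normalizer ((PK : Subgroup K) : Set K) ≤
      Subgroup.centralizer ((PK : Subgroup K) : Set K) := by
    intro n hn
    have hnN : (n : G) ∈ Subgroup.normalizer ((P : Subgroup G) : Set G) := by
      refine Subgroup.mem_normalizer_iff.2 fun w => ⟨fun hw => ?_, fun hw => ?_⟩
      · exact (Subgroup.mem_normalizer_iff.1 hn ⟨w, hPK hw⟩).1 hw
      · have hwK : w ∈ K := by
          have := mul_mem (mul_mem (inv_mem n.2) (hPK hw)) n.2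
          simpa [mul_assoc] using this
        exact (Subgroup.mem_normalizer_iff.1 hn ⟨w, hwK⟩).2 hw
    have hnC : (n : G) ∈ Subgroup.centralizer ((P : Subgroup G) : Set G) :=
      hKN ⟨n.2, hnN⟩
    exact Subgroup.mem_centralizer_iff.2 fun w hw => Subtype.ext
      (Subgroup.mem_centralizer_iff.1 hnC (w : G) hw)
  have hcomp := MonoidHom.ker_transferSylow_isComplement' PK hNKC
  set O := (MonoidHom.transferSylow PK hNKC).ker
  have hOodd : ¬ 2 ∣ Nat.card O := MonoidHom.not_dvd_card_ker_transferSylow PK hNKC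
  have hObot : O.map K.subtype = ⊥ := by
    refine hO _ ⟨?_⟩ ?_
    · rintro _ ⟨⟨n, hnK⟩, hnO, rfl⟩ x
      refine ⟨⟨x * n * x⁻¹, hKnorm.conj_mem n hnK x⟩, ?_, rfl⟩
      obtain ⟨j, hj⟩ := IsPGroup.iff_card.1 PK.isPGroup'
      refine regular_mem_of_index_pPow (p := 2) (k := j)
        (by rw [hcomp.symm.index_eq_card, hj]) ?_
      rw [← Subgroup.orderOf_coe]
      show ¬ 2 ∣ orderOf (x * n * x⁻¹)
      rw [← MulAut.conj_apply, MulEquiv.orderOf_eq]
      intro hd
      have h1 := Subgroup.orderOf_dvd_natCard O hnO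
      rw [← Subgroup.orderOf_coe] at h1
      exact hOodd (hd.trans h1)
    · rw [Subgroup.card_map_of_injective (Subgroup.subtype_injective K)]
      exact Nat.odd_iff.2 (Nat.two_dvd_ne_zero.1 hOodd)
  have hKP : K = (P : Subgroup G) := by
    refine le_antisymm (fun x hx => ?_) hPK
    rw [Subgroup.map_eq_bot_iff_of_injective _ (Subgroup.subtype_injective K)] at hObot
    rw [hObot] at hcomp
    exact (show (⟨x, hx⟩ : K) ∈ (PK : Subgroup K) from
      (Subgroup.isComplement'_bot_left.1 hcomp).symm ▸ Subgroup.mem_top _)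
  exact hKP ▸ hKnorm

end Cfsg.Agent.Block.AbTwo
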