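import Cfsg.Agent.S2300
import Cfsg.Agent.Lib.Block.SL2Char.SLBlocks
import Cfsg.Agent.Lib.Block.PrincipalColumn
import Cfsg.Agent.Lib.Block.Separated
import Cfsg.Agent.Lib.Block.Central

/-!
`SL(2, q)` for even `q`: one class of involutions, elementary Sylow 2-subgroups, and `q` characters
in the principal 2-block.
-/

set_option autoImplicit false
set_option linter.unusedSectionVars false
set_option linter.style.haveILetI false

namespace Cfsg.Agent.Block.AbTwo.SLTwo

open Cfsg Cfsg.Agent.Block Cfsg.Agent.Block.SL2Char Matrix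

universe u

variable {F : Type u} [Field F] [Fintype F] [DecidableEq F] [CharP F 2]

local notation "SS" => Matrix.SpecialLinearGroup (Fin 2) F

/-- An upper unitriangular element. -/
def upper (a : F) : SS := ⟨!![1, a; 0, 1], by simp [Matrix.det_fin_two_of]⟩

theorem upper_add (a b : F) : upper (a + b) = upper a * upper b := by
  refine Subtype.ext ?_
  show !![1, a + b; 0, 1] = !![1, a; 0, 1] * !![1, b; 0, 1]
  rw [Matrix.mul_fin_two]
  simp [add_comm]

theorem upper_injective : Function.Injective (upper : F → SS) := fun a b h => by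
  simpa [upper] using congrFun (congrFun (congrArg Subtype.val h) 0) 1

theorem upper_sq (a : F) : upper a * upper a = 1 := by
  rw [← upper_add, CharTwo.add_self_eq_zero]
  exact Subtype.ext (Matrix.one_fin_two).symm

/-- Every involution is conjugate to the standard one. -/
theorem exists_conj_upper {g : SS} (hg : g * g = 1) (hg1 : g ≠ 1) :
    ∃ h : SS, g * h = h * upper 1 := by
  set A : Matrix (Fin 2) (Fin 2) F := (g : Matrix (Fin 2) (Fin 2) F) with hA
  have hdet : A 0 0 * A 1 1 - A 0 1 * A 1 0 = 1 := by rw [← Matrix.det_fin_two]; exact g.2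
  have hsq : A * A = 1 := congrArg Subtype.val hg
  have e00 := congrFun (congrFun hsq 0) 0
  have e01 := congrFun (congrFun hsq 0) 1
  have e10 := congrFun (congrFun hsq 1) 0
  have e11 := congrFun (congrFun hsq 1) 1
  simp only [Matrix.mul_apply, Fin.sum_univ_two, Matrix.one_apply_eq, Matrix.one_apply_ne,
    Fin.zero_eq_one_iff, Nat.succ_ne_self, ne_eq, not_false_eq_true, Fin.one_eq_zero_iff] at e00 e01 e10 e11
  have h2 : (2 : F) = 0 := CharTwo.two_eq_zero
  have sqrt : ∀ c : F, c ≠ 0 → ∃ s : F, s * s * c = 1 := fun c hc => by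
    obtain ⟨s, hs⟩ := FiniteField.isSquare_of_char_two (ringChar.eq F 2) c⁻¹
    exact ⟨s, by rw [← hs, inv_mul_cancel₀ hc]⟩
  by_cases hc : A 1 0 = 0
  · have had : A 0 0 = 1 ∧ A 1 1 = 1 := by
      have ha : (A 0 0 - 1) * (A 0 0 - 1) = 0 := by
        linear_combination e00 - A 0 1 * hc + (1 - A 0 0) * h2
      have hd : (A 1 1 - 1) * (A 1 1 - 1) = 0 := by
        linear_combination e11 - A 0 1 * hc + (1 - A 1 1) * h2
      exact ⟨sub_eq_zero.1 (mul_self_eq_zero.1 ha), sub_eq_zero.1 (mul_self_eq_zero.1 hd)⟩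
    have hb : A 0 1 ≠ 0 := fun hb => hg1 (Subtype.ext (by
      show A = 1
      ext i j
      fin_cases i <;> fin_cases j <;> simp [had.1, had.2, hb, hc]))
    obtain ⟨s, hs⟩ := sqrt _ hb
    refine ⟨⟨!![A 0 1 * s, 0; 0, s], by rw [Matrix.det_fin_two_of]; linear_combination hs⟩,
      Subtype.ext ?_⟩
    show A * !![A 0 1 * s, 0; 0, s] = !![A 0 1 * s, 0; 0, s] * !![1, 1; 0, 1]
    ext i j
    fin_cases i <;> fin_cases j <;>
      simp [Matrix.mul_apply, Fin.sum_univ_two, had.1, had.2, hc]
  · obtain ⟨s, hs⟩ := sqrt _ hc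
    refine ⟨⟨!![(A 0 0 + 1) * s, s; A 1 0 * s, 0], by
      rw [Matrix.det_fin_two_of]; linear_combination hs - A 1 0 * s * s * h2⟩, Subtype.ext ?_⟩
    show A * !![(A 0 0 + 1) * s, s; A 1 0 * s, 0] =
      !![(A 0 0 + 1) * s, s; A 1 0 * s, 0] * !![1, 1; 0, 1]
    have had : A 0 0 + A 1 1 = 0 := by
      have : A 1 0 * (A 0 0 + A 1 1) = 0 := by linear_combination e10
      exact (mul_eq_zero.1 this).resolve_left hc
    ext i j
    fin_cases i <;> fin_cases j <;> simp [Matrix.mul_apply, Fin.sum_univ_two]
    · linear_combination s * e00 - s * h2 * 0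
    · linear_combination -s * h2
    · linear_combination (A 1 0 * s) * had

theorem isConj_involutions {g g' : SS} (hg : orderOf g = 2) (hg' : orderOf g' = 2) :
    IsConj g g' := by
  have key : ∀ {x : SS}, orderOf x = 2 → IsConj (upper (1 : F)) x := fun {x} hx => by
    obtain ⟨hx1, hx2⟩ := orderOf_eq_prime_iff.1 hx |>.symm
    obtain ⟨h, hh⟩ := exists_conj_upper (by rw [← pow_two]; exact hx2) hx1
    exact isConj_iff.2 ⟨h, by rw [← hh, mul_inv_cancel_right]⟩
  exact (key hg).symm.trans (key hg')

variable [Fact (Nat.Prime 2)]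

theorem card_sylow (Q : Sylow 2 SS) : Nat.card (Q : Subgroup SS) = Fintype.card F := by
  obtain ⟨n, -, hn⟩ := FiniteField.card F 2
  have hodd : ¬ 2 ∣ Fintype.card F ^ 2 - 1 := p_not_dvd_sq_sub
  have h0 : Fintype.card F ^ 2 - 1 ≠ 0 := fun e => hodd (e ▸ dvd_zero 2)
  rw [Q.card_eq_multiplicity, card_SS_nat, Nat.factorization_mul Fintype.card_pos.ne' h0,
    Finsupp.add_apply, Nat.factorization_eq_zero_of_not_dvd hodd, add_zero, hn,
    Nat.Prime.factorization_pow Nat.prime_two, Finsupp.single_eq_same]

theorem sylow_sq (Q : Sylow 2 SS) : ∀ v ∈ (Q : Subgroup SS), v * v = 1 := by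
  let f : Multiplicative F →* SS :=
    { toFun := fun a => upper a.toAdd
      map_one' := Subtype.ext (Matrix.one_fin_two).symm
      map_mul' := fun a b => upper_add _ _ }
  have hinj : Function.Injective f := fun a b h => Multiplicative.toAdd.injective (upper_injective h)
  obtain ⟨n, -, hn⟩ := FiniteField.card F 2
  have hU : IsPGroup 2 f.range := IsPGroup.of_card (n := n) (by
    rw [Nat.card_congr (MonoidHom.ofInjective hinj).toEquiv.symm,
      Nat.card_congr Multiplicative.toAdd, Nat.card_eq_fintype_card, hn])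
  obtain ⟨T, hT⟩ := hU.exists_le_sylow
  have hTe : (T : Subgroup SS) = f.range := (Subgroup.eq_of_le_of_card_ge hT (by
    rw [card_sylow T, Nat.card_congr (MonoidHom.ofInjective hinj).toEquiv.symm,
      Nat.card_congr Multiplicative.toAdd, Nat.card_eq_fintype_card])).symm
  obtain ⟨g, rfl⟩ := MulAction.exists_smul_eq SS T Q
  rintro _ ⟨w, hw, rfl⟩
  rw [SetLike.mem_coe, hTe] at hw
  obtain ⟨a, rfl⟩ := hw
  show MulAut.conj g (f a) * MulAut.conj g (f a) = 1
  rw [← map_mul, show f a * f a = 1 from upper_sq _, map_one]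

theorem card_principal {M : Ideal AlgInt} (hM : IsPModular 2 M) (hq : 4 ≤ Fintype.card F) :
    Nat.card (principalBlock M SS) = Fintype.card F := by
  classical
  set q := Fintype.card F with hqd
  have hneg : (-1 : SS) = 1 := Subtype.ext (by
    rw [Matrix.SpecialLinearGroup.coe_neg, Matrix.SpecialLinearGroup.coe_one]
    ext i j
    rw [Matrix.neg_apply, CharTwo.neg_eq])
  obtain ⟨hdeg, hcnt⟩ := Cfsg.Agent.S2300.result (F := F)
  obtain ⟨h1, -, hp, hm⟩ := hcnt hq
  have hmem : ∀ χ : IrrCharacter SS, χ ∈ principalBlock M SS ↔ (χ : SS → ℂ) 1 ≠ (q : ℂ) := by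
    intro χ
    constructor
    · intro hχ he
      rw [PrinCol.mem_principal_iff hM] at hχ
      refine hχ ?_
      have hdq : charDegree (χ : SS → ℂ) = q := by
        have := (charDeg_spec' χ).symm.trans he
        exact_mod_cast this
      have hfull : (charDegree (χ : SS → ℂ)).factorization 2 = (Nat.card SS).factorization 2 := by
        have hodd : ¬ 2 ∣ q ^ 2 - 1 := p_not_dvd_sq_sub
        rw [hdq, card_SS_nat, Nat.factorization_mul (a := Fintype.card F) Fintype.card_pos.ne'
          (b := Fintype.card F ^ 2 - 1) (fun e => hodd (by rw [e]; exact dvd_zero 2)), Finsupp.add_apply,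
          Nat.factorization_eq_zero_of_not_dvd hodd, add_zero]
      have hne : (χ : SS → ℂ) ≠ (trivialIrr SS : SS → ℂ) := fun e => by
        rw [e, show ((trivialIrr SS : IrrCharacter SS) : SS → ℂ) 1 = 1 from rfl] at he
        have : (1 : ℕ) = q := by exact_mod_cast he
        omega
      have h0 := Cfsg.Agent.Char.classInner_irr_ne χ.2 (trivialIrr SS).2 hne
      rw [classInner, mul_eq_zero] at h0
      have h0' := h0.resolve_left (inv_ne_zero (Nat.cast_ne_zero.2 Nat.card_pos.ne'))
      rw [PrinCol.regTot, Finset.sum_filter]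
      refine Eq.trans ?_ h0'
      refine Finset.sum_congr rfl fun x _ => ?_
      by_cases hx : 2 ∣ orderOf x
      · simp [hx, defectZero_vanish hM χ hfull hx]
      · simp [hx, trivialIrr]
    · intro hne
      refine pblock_mem_of_sameBlock hM isPBlock_principalBlock (trivial_mem_principalBlock hM)
        (sameBlock_of_sign hM ?_ hne ?_)
      · show (1 : ℂ) ≠ (q : ℂ)
        intro e
        have : (1 : ℕ) = q := by exact_mod_cast e
        omega
      · rw [hneg, div_self (irr_one_ne_zero _), div_self (irr_one_ne_zero _)]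
  have hq1 : (q : ℂ) ≠ 1 := by
    intro e
    have : q = 1 := by exact_mod_cast e
    omega
  rw [Nat.card_eq_fintype_card, Fintype.card_of_subtype
    (Finset.univ.filter fun χ : IrrCharacter SS => (χ : SS → ℂ) 1 ≠ (q : ℂ))
    (fun χ => by simp [hmem])]
  rw [Nat.card_eq_fintype_card, Fintype.card_subtype] at h1 hp hm
  have hu : (Finset.univ.filter fun χ : IrrCharacter SS => (χ : SS → ℂ) 1 ≠ (q : ℂ)) =
      (Finset.univ.filter fun χ : IrrCharacter SS => (χ : SS → ℂ) 1 = 1) ∪
      ((Finset.univ.filter fun χ : IrrCharacter SS => (χ : SS → ℂ) 1 = (q : ℂ) + 1) ∪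
        Finset.univ.filter fun χ : IrrCharacter SS => (χ : SS → ℂ) 1 = (q : ℂ) - 1) := by
    ext χ
    simp only [Finset.mem_union, Finset.mem_filter, Finset.mem_univ, true_and]
    refine ⟨fun h => ?_, ?_⟩
    · rcases hdeg _ χ.2 with e | e | e | e
      · exact .inl e
      · exact .inr (.inr e)
      · exact absurd e h
      · exact .inr (.inl e)
    · rintro (e | e | e) e'
      · exact hq1 (e'.symm.trans e)
      · exact one_ne_zero (α := ℂ) (by linear_combination e' - e)
      · exact one_ne_zero (α := ℂ) (by linear_combination e - e')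
  have hq0 : (q : ℂ) ≠ 0 := by
    intro e
    have : q = 0 := by exact_mod_cast e
    omega
  rw [hu, Finset.card_union_of_disjoint, Finset.card_union_of_disjoint, h1, hp, hm]
  · obtain ⟨n, hn0, hn⟩ := FiniteField.card F 2
    have : 2 ∣ q := dvd_card
    omega
  · refine Finset.disjoint_filter.2 fun χ _ e e' => two_ne_zero (α := ℂ) ?_
    linear_combination e' - e
  · refine Finset.disjoint_left.2 fun χ hχ hχ' => ?_
    simp only [Finset.mem_union, Finset.mem_filter, Finset.mem_univ, true_and] at hχ hχ'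
    rcases hχ' with e | e
    · exact hq0 (by linear_combination hχ - e)
    · have : (q : ℂ) = 2 := by linear_combination hχ - e
      have : q = 2 := by exact_mod_cast this
      omega

end Cfsg.Agent.Block.AbTwo.SLTwo
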