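import Cfsg.Agent.Lib.Block.AbelianTwo.NormalCase
import Cfsg.Agent.Lib.Block.AbelianTwo.RankTwo
import Cfsg.Agent.Lib.Block.AbelianTwo.SLTwo
import Cfsg.Agent.Lib.Block.AbelianTwo.Quot
import Cfsg.Agent.Lib.Fus.AbelianInvCentMain
import Cfsg.Agent.Lib.Local.CoreConsumers.Main
import Cfsg.Agent.S1221
import Cfsg.Agent.S0205

/-!
An abelian Sylow 2-subgroup with free abelian automizer and trivial odd core.
-/

set_option autoImplicit false
set_option linter.unusedSectionVars false
set_option linter.style.haveILetI false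

namespace Cfsg.Agent.Block.AbTwo

open Cfsg Cfsg.Agent.Block Cfsg.Agent.Char.BP Cfsg.Agent.Char.SecInner Cfsg.Agent.Transfer

universe u

variable {G : Type u} [Group G] [Finite G] {M : Ideal AlgInt} {P : Sylow 2 G}

/-- The count in the free case. -/
theorem Free.count (h : Free P) (hM : IsPModular 2 M) :
    Nat.card (principalBlock M G) * idx P + 1 =
      idx P * blockRank 2 (principalBlock M G) + Nat.card (P : Subgroup G) := by
  classical
  haveI : Fact (Nat.Prime 2) := ⟨Nat.prime_two⟩
  cases nonempty_fintype G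
  have hk := h.toSemi.count hM
  rw [h.fixF_eq_bot, Subgroup.card_bot] at hk
  rw [hk, show (Finset.univ.filter fun v : G => v ∈ (⊥ : Subgroup G)) = {1} by
    ext v; simp, Finset.sum_singleton, rank_cent_one hM]

/-- Centralizers of nontrivial elements have normal 2-complements. -/
theorem Free.complement (h : Free P) {u : G} (hu : u ∈ (P : Subgroup G)) (hu1 : u ≠ 1) :
    HasNormalPComplement 2 (Subgroup.centralizer ({u} : Set G)) := by
  haveI : Fact (Nat.Prime 2) := ⟨Nat.prime_two⟩
  cases nonempty_fintype G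
  exact complement_cent P h.comm hu fun t ht e => h.free hu hu1 t ht e

theorem exists_mem_sylow (P : Sylow 2 G) {t : G} (ht : orderOf t = 2) :
    ∃ g : G, g * t * g⁻¹ ∈ (P : Subgroup G) := by
  haveI : Fact (Nat.Prime 2) := ⟨Nat.prime_two⟩
  obtain ⟨T, hT⟩ := (IsPGroup.of_card (p := 2) (n := 1)
    (show Nat.card ↥(Subgroup.zpowers t) = 2 ^ 1 by
      rw [Nat.card_zpowers, ht, pow_one])).exists_le_sylow
  obtain ⟨g, hg⟩ := MulAction.exists_smul_eq G T P
  exact ⟨g, hg ▸ ⟨t, hT (Subgroup.mem_zpowers t), rfl⟩⟩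

/-- The conjugation map between centralizers. -/
theorem complement_conj {t g : G}
    (h : HasNormalPComplement 2 (Subgroup.centralizer ({g * t * g⁻¹} : Set G))) :
    HasNormalPComplement 2 (Subgroup.centralizer ({t} : Set G)) := by
  haveI : Fact (Nat.Prime 2) := ⟨Nat.prime_two⟩
  let j : Subgroup.centralizer ({t} : Set G) →*
      Subgroup.centralizer ({g * t * g⁻¹} : Set G) :=
    ((MulAut.conj g).toMonoidHom.comp (Subgroup.centralizer ({t} : Set G)).subtype).codRestrict _
      fun c => Subgroup.mem_centralizer_singleton_iff.2 (by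
        have := congrArg (MulAut.conj g) (Subgroup.mem_centralizer_singleton_iff.1 c.2)
        simpa using this)
  refine hasNormalPComplement_of_injective j (fun a b e => Subtype.ext ?_) h
  exact (MulAut.conj g).injective
    (congrArg (fun q : Subgroup.centralizer ({g * t * g⁻¹} : Set G) => (q : G)) e :)

theorem Free.complement_involution (h : Free P) {t : G} (ht : orderOf t = 2) :
    HasNormalPComplement 2 (Subgroup.centralizer ({t} : Set G)) := by
  obtain ⟨g, hg⟩ := exists_mem_sylow P ht
  refine complement_conj (h.complement hg fun e => ?_)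
  rw [conj_eq_one_iff] at e
  rw [e, orderOf_one] at ht
  omega

/-- Two-local subgroups are 2-constrained. -/
theorem Free.constrained (h : Free P) (T : Subgroup G) (hT : IsPGroup 2 T) (hT1 : T ≠ ⊥) :
    IsPConstrained 2 ↥(Subgroup.normalizer (T : Set G)) := by
  haveI : Fact (Nat.Prime 2) := ⟨Nat.prime_two⟩
  set X := Subgroup.normalizer (T : Set G) with hX
  set T' : Subgroup X := T.subgroupOf X with hT'
  haveI hT'n : T'.Normal := Subgroup.normal_subgroupOf_of_le_normalizer le_rfl
  have hT'p : IsPGroup 2 T' :=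
    hT.of_injective (Subgroup.subgroupOfEquivOfLe (Subgroup.le_normalizer (H := T))).toMonoidHom
      (MulEquiv.injective _)
  obtain ⟨u, hu⟩ : ∃ u : T, orderOf u = 2 := by
    obtain ⟨k, hk⟩ := IsPGroup.iff_card.1 hT
    refine exists_prime_orderOf_dvd_card' 2 (hk ▸ dvd_pow_self 2 ?_)
    rintro rfl
    exact hT1 (Subgroup.card_eq_one.1 hk)
  set C : Subgroup X := Subgroup.centralizer (T' : Set X) with hC
  haveI : C.Normal := Subgroup.normal_centralizer
  -- the centralizer of `T` has a normal complement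
  have hcomp : HasNormalPComplement 2 C := by
    let j : C →* Subgroup.centralizer ({(u : G)} : Set G) :=
      (X.subtype.comp C.subtype).codRestrict _ fun c => Subgroup.mem_centralizer_singleton_iff.2
        (congrArg Subtype.val
          (Subgroup.mem_centralizer_iff.1 c.2 ⟨u, Subgroup.le_normalizer u.2⟩ u.2)).symm
    refine hasNormalPComplement_of_injective j (fun a b e => Subtype.ext (Subtype.ext ?_))
      (h.complement_involution (by rw [Subgroup.orderOf_coe, hu]))
    exact (congrArg (fun q : Subgroup.centralizer ({(u : G)} : Set G) => (q : G)) e :)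
  obtain ⟨N, hN, hd, k, hk⟩ := hasNormalPComplement_iff_exists.1 hcomp
  haveI : (pPrimeCore 2 X).Normal := Grp.pPrimeCore_isNormal
  set q := QuotientGroup.mk' (pPrimeCore 2 X) with hq
  have hCle : C ≤ pPrimePCore 2 X := by
    refine Subgroup.map_le_iff_le_comap.1 (Grp.le_pCore
      ((inferInstance : C.Normal).map _ (QuotientGroup.mk'_surjective _)) ?_)
    have hNle : N ≤ (q.comp C.subtype).ker := by
      intro x hx
      refine (QuotientGroup.eq_one_iff _).2 ((Subgroup.map_mono (f := C.subtype)
        (Grp.le_pPrimeCore hN ((Fact.out : Nat.Prime 2).coprime_iff_not_dvd.2 hd).symm) |>.trans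
        ((Grp.pPrimeCore_map_eq (p := 2) C).le.trans inf_le_left)) ⟨x, hx, rfl⟩)
    obtain ⟨j, -, hj⟩ := (Nat.dvd_prime_pow Nat.prime_two).1
      (hk ▸ Subgroup.index_dvd_of_le hNle)
    rw [Subgroup.index_ker, MonoidHom.range_comp, Subgroup.range_subtype] at hj
    exact IsPGroup.of_card hj
  intro Q
  refine le_trans (Subgroup.centralizer_le ?_) hCle
  have hT'le : T' ≤ pPrimePCore 2 X := Subgroup.map_le_iff_le_comap.1
    (Grp.le_pCore (hT'n.map _ (QuotientGroup.mk'_surjective _)) (hT'p.map _))
  intro x hx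
  obtain ⟨R, hR⟩ := (hT'p.of_injective (Subgroup.subgroupOfEquivOfLe hT'le).toMonoidHom
    (MulEquiv.injective _)).exists_le_sylow
  obtain ⟨g, hg⟩ := MulAction.exists_smul_eq ↥(pPrimePCore 2 X) R Q
  refine ⟨⟨x, hT'le hx⟩, ?_, rfl⟩
  rw [SetLike.mem_coe, ← hg]
  refine ⟨g⁻¹ * ⟨x, hT'le hx⟩ * g, hR ?_, ?_⟩
  · show ((g⁻¹ * ⟨x, hT'le hx⟩ * g : pPrimePCore 2 X) : X) ∈ T'
    simpa using hT'n.conj_mem x hx (g : X)⁻¹
  · show MulAut.conj g (g⁻¹ * ⟨x, hT'le hx⟩ * g) = ⟨x, hT'le hx⟩
    rw [MulAut.conj_apply]; group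

theorem isFourConnected_of_comm {S : Type*} [Group S] (h : ∀ a b : S, a * b = b * a) :
    IsFourConnected S := fun _ _ hU hV =>
  Relation.ReflTransGen.single ⟨hU, hV, fun a _ b _ => h a b⟩

/-- The automizer of the free case with rank at least three. -/
theorem Free.rank_large (h : Free P) (hn : ¬ (P : Subgroup G).Normal) (hO : pPrimeCore 2 G = ⊥)
    (hM : IsPModular 2 M) (h3 : ¬ PRankLE 2 2 (P : Subgroup G)) :
    blockRank 2 (principalBlock M G) = idx P ∧ Nat.card (P : Subgroup G) = idx P + 1 := by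
  classical
  haveI : Fact (Nat.Prime 2) := ⟨Nat.prime_two⟩
  haveI := h.comm
  obtain ⟨A₀, hA₀c, hA₀, hA₀card⟩ : ∃ A : Subgroup (P : Subgroup G), IsMulCommutative A ∧
      (∀ a ∈ A, a ^ 2 = 1) ∧ 4 < Nat.card A := by
    by_contra hcon
    push Not at hcon
    exact h3 fun A hA hA2 => hcon A hA hA2
  have hP4 : 4 < Nat.card (P : Subgroup G) :=
    lt_of_lt_of_le hA₀card (Subgroup.card_le_card_group A₀)
  have hAI : Fus.AbInv.AI G := by
    intro t ht x y hx hy
    have hcore : centralizerPPrimeCore 2 t = ⊥ :=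
      CoreConsumers.core_trivial (fun H hH => Cfsg.Agent.S1221.result H hH)
        (fun K _ _ hK => Cfsg.Agent.S0205.result hK) hO h.constrained P
        (isFourConnected_of_comm fun a b => h.comm.is_comm.comm a b) h3 t ht
    obtain ⟨N, hN, hd, k, hk⟩ := hasNormalPComplement_iff_exists.1 (h.complement_involution ht)
    have hNbot : N = ⊥ := by
      refine (Subgroup.map_eq_bot_iff_of_injective _ (Subgroup.subtype_injective _)).1
        (le_bot_iff.1 (hcore ▸ Subgroup.map_mono (Grp.le_pPrimeCore hN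
          ((Fact.out : Nat.Prime 2).coprime_iff_not_dvd.2 hd).symm)))
    rw [hNbot, Subgroup.index_bot] at hk
    obtain ⟨T, hT⟩ := (IsPGroup.of_card (p := 2) hk).exists_le_sylow
    obtain ⟨g, hg⟩ := MulAction.exists_smul_eq G T P
    have hmem : ∀ z, Commute z t → MulAut.conj g z ∈ (P : Subgroup G) := fun z hz =>
      hg ▸ ⟨z, hT (Subgroup.mem_centralizer_singleton_iff.2 hz.eq), rfl⟩
    have := h.mul_comm' (hmem x hx) (hmem y hy)
    rw [← map_mul, ← map_mul] at this
    exact (MulAut.conj g).injective this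
  have heven : Even (Nat.card G) := even_iff_two_dvd.2 (by
    obtain ⟨k, hk⟩ := IsPGroup.iff_card.1 P.isPGroup'
    refine (dvd_pow_self 2 (?_ : k ≠ 0)).trans (hk ▸ (P : Subgroup G).card_subgroup_dvd_card)
    rintro rfl
    rw [pow_zero] at hk
    omega)
  rcases Fus.AbInv.classify heven hAI with hcyc | hnor | ⟨F, _, _, A, _, _, _, hAodd, ⟨e⟩⟩
  · exfalso
    haveI := hcyc P
    cases nonempty_fintype A₀
    have hle : Nat.card A₀ ≤ 2 := by
      haveI : IsCyclic A₀ := Subgroup.isCyclic A₀
      have hall : (Finset.univ.filter fun a : A₀ => a ^ 2 = 1) = Finset.univ :=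
        Finset.filter_true_of_mem fun a _ => Subtype.ext (hA₀ a a.2)
      have := IsCyclic.card_pow_eq_one_le (α := A₀) two_pos
      rwa [hall, Finset.card_univ, ← Nat.card_eq_fintype_card] at this
    omega
  · exact absurd (hnor P) hn
  -- the abelian factor is trivial
  let q : G →* Matrix.SpecialLinearGroup (Fin 2) F := (MonoidHom.fst _ _).comp e.toMonoidHom
  have hqs : Function.Surjective q := fun x => ⟨e.symm (x, 1), by simp [q]⟩
  have hkerbot : q.ker = ⊥ := by
    refine le_bot_iff.1 (hO ▸ Grp.le_pPrimeCore inferInstance ?_)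
    have h1 : Nat.card q.ker = Nat.card A := by
      have h2 := Subgroup.card_eq_card_quotient_mul_card_subgroup q.ker
      rw [Nat.card_congr (QuotientGroup.quotientKerEquivOfSurjective q hqs).toEquiv,
        Nat.card_congr e.toEquiv, Nat.card_prod] at h2
      exact (Nat.eq_of_mul_eq_mul_left Nat.card_pos h2).symm
    rw [h1]
    exact Nat.coprime_two_right.2 hAodd
  let φ : G ≃* Matrix.SpecialLinearGroup (Fin 2) F :=
    MulEquiv.ofBijective q ⟨(MonoidHom.ker_eq_bot_iff q).1 hkerbot, hqs⟩
  haveI : CharP F 2 := by assumption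
  set Q := P.mapSurjective (f := φ.toMonoidHom) φ.surjective with hQ
  have hcardP : Nat.card (P : Subgroup G) = Fintype.card F := by
    rw [← SLTwo.card_sylow Q]
    show _ = Nat.card ((P : Subgroup G).map φ.toMonoidHom)
    rw [Subgroup.card_map_of_injective (f := φ.toMonoidHom) φ.injective]
  have hsq : ∀ v ∈ (P : Subgroup G), v * v = 1 := fun v hv => φ.injective (by
    rw [map_mul, map_one]
    exact SLTwo.sylow_sq Q _ (show φ v ∈ (P : Subgroup G).map φ.toMonoidHom from ⟨v, hv, rfl⟩))
  have hord : ∀ v ∈ (P : Subgroup G), v ≠ 1 → orderOf v = 2 := fun v hv hv1 =>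
    orderOf_eq_prime (by rw [pow_two]; exact hsq v hv) hv1
  have hconj : ∀ v ∈ (P : Subgroup G), ∀ w ∈ (P : Subgroup G), v ≠ 1 → w ≠ 1 → IsConj v w := by
    intro v hv w hw hv1 hw1
    have h1 := φ.symm.toMonoidHom.map_isConj
      (SLTwo.isConj_involutions (g := φ v) (g' := φ w)
        (by rw [MulEquiv.orderOf_eq, hord v hv hv1]) (by rw [MulEquiv.orderOf_eq, hord w hw hw1]))
    simpa using h1
  obtain ⟨v, hv, hv1⟩ : ∃ v ∈ (P : Subgroup G), v ≠ 1 := by
    by_contra hcon
    push Not at hcon
    rw [(Subgroup.eq_bot_iff_forall _).2 hcon, Subgroup.card_bot] at hP4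
    omega
  cases nonempty_fintype G
  have hidx : idx P + 1 = Nat.card (P : Subgroup G) := by
    rw [← cnum_eq_of_free h.comm hv (h.free hv hv1), cnum]
    rw [show (Finset.univ.filter fun w : G => w ∈ (P : Subgroup G) ∧ IsConj v w) =
      (Finset.univ.filter fun w : G => w ∈ (P : Subgroup G)).erase 1 by
        ext w
        simp only [Finset.mem_filter, Finset.mem_univ, true_and, Finset.mem_erase]
        refine ⟨fun hw => ⟨fun e => hv1 (isConj_one_left.1 (e ▸ hw.2)), hw.1⟩,
          fun hw => ⟨hw.2, hconj v hv w hw.2 hv1 hw.1⟩⟩]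
    rw [Finset.card_erase_add_one (by simp), Nat.card_eq_fintype_card]
    exact (Fintype.card_subtype _).symm
  refine ⟨?_, hidx.symm⟩
  have hk : Nat.card (principalBlock M G) = Nat.card (P : Subgroup G) := by
    rw [card_principal_congr hM φ, SLTwo.card_principal hM (by omega), hcardP]
  have hc := h.count hM
  rw [hk, ← hidx] at hc
  have he0 : 0 < idx P := Nat.pos_of_ne_zero Subgroup.index_ne_zero_of_finite
  refine Nat.eq_of_mul_eq_mul_left he0 ?_
  nlinarith

/-- Rank at most two. -/
theorem Free.rank_small (h : Free P) (hn : ¬ (P : Subgroup G).Normal) (hO : pPrimeCore 2 G = ⊥)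
    (hM : IsPModular 2 M) (h3 : PRankLE 2 2 (P : Subgroup G)) :
    blockRank 2 (principalBlock M G) = idx P ∧ Nat.card (P : Subgroup G) = idx P + 1 := by
  classical
  haveI : Fact (Nat.Prime 2) := ⟨Nat.prime_two⟩
  haveI := h.comm
  cases nonempty_fintype G
  let Ω : Subgroup (P : Subgroup G) :=
    { carrier := {a | a ^ 2 = 1}
      one_mem' := one_pow 2
      mul_mem' := fun {a b} ha hb => by
        show (a * b) ^ 2 = 1
        rw [(show Commute a b from h.comm.is_comm.comm a b).mul_pow, ha, hb, one_mul]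
      inv_mem' := fun {a} ha => by
        show a⁻¹ ^ 2 = 1
        rw [inv_pow, ha, inv_one] }
  have hΩ4 : Nat.card Ω ≤ 4 :=
    h3 Ω ⟨⟨fun a b => Subtype.ext (h.comm.is_comm.comm _ _)⟩⟩ fun a ha => ha
  -- a nontrivial element
  obtain ⟨n, hnN, hnC⟩ := SetLike.not_le_iff_exists.1 h.nontriv
  have hP1 : (P : Subgroup G) ≠ ⊥ := fun e => hnC (mem_CS_of_fix fun v hv => by
    rw [e, Subgroup.mem_bot] at hv
    rw [hv, mul_one, mul_inv_cancel])
  obtain ⟨a, ha⟩ : ∃ a : (P : Subgroup G), orderOf a = 2 := by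
    obtain ⟨k, hk⟩ := IsPGroup.iff_card.1 P.isPGroup'
    refine exists_prime_orderOf_dvd_card' 2 (hk ▸ dvd_pow_self 2 ?_)
    rintro rfl
    exact hP1 (Subgroup.card_eq_one.1 hk)
  obtain ⟨ha2, ha1⟩ := orderOf_eq_prime_iff.1 ha
  set b : (P : Subgroup G) := ⟨n * a * n⁻¹, NS_mem hnN a.2⟩ with hb
  have hb2 : b ^ 2 = 1 := by
    refine Subtype.ext ?_
    show (n * (a : G) * n⁻¹) ^ 2 = 1
    rw [conj_pow, show (a : G) ^ 2 = 1 from congrArg Subtype.val ha2, mul_one, mul_inv_cancel]
  have hb1 : b ≠ 1 := fun e => ha1 (Subtype.ext (conj_eq_one_iff.1 (congrArg Subtype.val e)))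
  have hab : a ≠ b := fun e => hnC (h.free a.2 (fun e1 => ha1 (Subtype.ext e1)) n hnN
    (congrArg Subtype.val e).symm)
  have ha2' : a * a = 1 := by rw [← pow_two]; exact ha2
  have hab1 : a * b ≠ 1 := fun e => hab (mul_left_cancel (ha2'.trans e.symm))
  have hΩeq : ({1, a, b, a * b} : Finset (P : Subgroup G)) = Finset.univ.filter (· ∈ Ω) := by
    refine Finset.eq_of_subset_of_card_le ?_ ?_
    · intro u hu
      simp only [Finset.mem_insert, Finset.mem_singleton] at hu
      simp only [Finset.mem_filter, Finset.mem_univ, true_and]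
      rcases hu with rfl | rfl | rfl | rfl
      exacts [Ω.one_mem, ha2, hb2, Ω.mul_mem ha2 hb2]
    · rw [Finset.card_insert_of_notMem (by simp [ha1.symm, hb1.symm, hab1.symm]),
        Finset.card_insert_of_notMem (by simp [hab, hb1]),
        Finset.card_insert_of_notMem (by simp [ha1]), Finset.card_singleton, ← Fintype.card_subtype,
        ← Nat.card_eq_fintype_card]
      exact hΩ4
  have htwo : TwoRankTwo P := by
    refine ⟨a, a.2, b, b.2, fun e => ha1 (Subtype.ext e), fun e => hb1 (Subtype.ext e),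
      fun e => hab (Subtype.ext e), congrArg Subtype.val ha2',
      congrArg Subtype.val (show b * b = 1 by rw [← pow_two]; exact hb2), fun u hu hu2 => ?_⟩
    have : (⟨u, hu⟩ : (P : Subgroup G)) ∈ ({1, a, b, a * b} : Finset (P : Subgroup G)) := by
      rw [hΩeq, Finset.mem_filter]
      exact ⟨Finset.mem_univ _, by show _ ^ 2 = 1; rw [pow_two]; exact Subtype.ext hu2⟩
    simp only [Finset.mem_insert, Finset.mem_singleton] at this
    rcases this with e | e | e | e
    · exact .inl (congrArg Subtype.val e)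
    · exact .inr (.inl (congrArg Subtype.val e))
    · exact .inr (.inr (.inl (congrArg Subtype.val e)))
    · exact .inr (.inr (.inr (congrArg Subtype.val e)))
  rcases htwo.automizer with hle | ⟨g, hgN, hgen, hrel, htrans⟩
  · exact absurd hle h.nontriv
  have he : idx P = 3 := hrel
  have hc := h.count hM
  rw [he] at hc
  obtain ⟨j, hj⟩ := IsPGroup.iff_card.1 P.isPGroup'
  have h4le : 4 ≤ Nat.card (P : Subgroup G) := by
    calc 4 = ({1, a, b, a * b} : Finset (P : Subgroup G)).card := by
          rw [Finset.card_insert_of_notMem (by simp [ha1.symm, hb1.symm, hab1.symm]),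
            Finset.card_insert_of_notMem (by simp [hab, hb1]),
            Finset.card_insert_of_notMem (by simp [ha1]), Finset.card_singleton]
      _ ≤ _ := (Finset.card_le_univ _).trans (Nat.card_eq_fintype_card).ge
  have hbig : Nat.card (P : Subgroup G) = 4 ∨ 16 ≤ Nat.card (P : Subgroup G) := by
    rw [hj] at hc h4le ⊢
    rcases Nat.lt_or_ge j 4 with hj4 | hj4
    · interval_cases j <;> omega
    · exact .inr (le_trans (by norm_num) (Nat.pow_le_pow_right two_pos hj4))
  rcases hbig with h4 | h16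
  · have hexp : ∀ v : (P : Subgroup G), v * v = 1 := fun v => by
      have hsub : (Finset.univ.filter (· ∈ Ω)) = Finset.univ := by
        refine Finset.eq_univ_of_card _ ?_
        rw [← hΩeq, Finset.card_insert_of_notMem (by simp [ha1.symm, hb1.symm, hab1.symm]),
          Finset.card_insert_of_notMem (by simp [hab, hb1]),
          Finset.card_insert_of_notMem (by simp [ha1]), Finset.card_singleton,
          ← Nat.card_eq_fintype_card, h4]
      have := hsub ▸ Finset.mem_univ v
      rw [← pow_two]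
      exact (Finset.mem_filter.1 this).2
    have hK : IsKleinFour (P : Subgroup G) := by
      haveI : Nontrivial (P : Subgroup G) := Finite.one_lt_card_iff_nontrivial.1 (by omega)
      exact ⟨h4, (Monoid.exponent_eq_prime_iff Nat.prime_two).2 fun v hv =>
        orderOf_eq_prime (by rw [pow_two]; exact hexp v) hv⟩
    have hone : ∀ s t : G, orderOf s = 2 → orderOf t = 2 → IsConj s t := by
      intro s t hs ht
      obtain ⟨x, hx⟩ := exists_mem_sylow P hs
      obtain ⟨y, hy⟩ := exists_mem_sylow P ht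
      have hne : ∀ {z w : G}, orderOf z = 2 → w * z * w⁻¹ ≠ 1 := fun {z w} hz e => by
        rw [conj_eq_one_iff] at e
        rw [e, orderOf_one] at hz
        omega
      exact ((isConj_iff.2 ⟨x, rfl⟩ : IsConj s _).trans (htrans _ hx _ hy (hne hs) (hne ht)
        (congrArg Subtype.val (hexp ⟨_, hx⟩)) (congrArg Subtype.val (hexp ⟨_, hy⟩)))).trans
        (isConj_iff.2 ⟨y, rfl⟩ : IsConj t _).symm
    obtain ⟨z₂, z₃, z₄, ε, -, n2, n3, d23, d24, d34, hB, hval, -, -, -, -⟩ :=
      klein_principal hM P hK hone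
    have n4 : trivialIrr G ≠ z₄ := fun e => by
      have := (hval (a : G) (by rw [Subgroup.orderOf_coe, ha])).2.2
      rw [← e, show ((trivialIrr G : IrrCharacter G) : G → ℂ) (a : G) = 1 from rfl] at this
      norm_num at this
    have hk : Nat.card (principalBlock M G) = 4 := by
      have hS : principalBlock M G = ({trivialIrr G, z₂, z₃, z₄} : Finset (IrrCharacter G)) := by
        rw [hB]
        ext χ
        simp only [Set.mem_setOf_eq, Finset.coe_insert, Finset.coe_singleton, Set.mem_insert_iff,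
          Set.mem_singleton_iff]
        exact or_congr ⟨fun e => Subtype.ext e, fun e => by rw [e]; rfl⟩ Iff.rfl
      rw [hS, Nat.card_coe_set_eq, Set.ncard_coe_finset, Finset.card_insert_of_notMem,
        Finset.card_insert_of_notMem (by simp [d23, d24]),
        Finset.card_insert_of_notMem (by simp [d34]), Finset.card_singleton]
      simp only [Finset.mem_insert, Finset.mem_singleton, not_or]
      exact ⟨fun e => n2 (by rw [← e]; rfl), fun e => n3 (by rw [← e]; rfl), n4⟩
    rw [hk, h4] at hc
    omega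
  · refine absurd (twoRankTwo_normal P htwo h16 fun N hN hodd => le_bot_iff.1
      (hO ▸ Grp.le_pPrimeCore hN (Nat.coprime_two_right.2 hodd))) hn

/-- The free case with trivial odd core. -/
theorem Free.rank_core (h : Free P) (hO : pPrimeCore 2 G = ⊥) (hM : IsPModular 2 M) :
    blockRank 2 (principalBlock M G) = idx P ∧
      (Group.IsSolvable G ∨ Nat.card (P : Subgroup G) = idx P + 1) := by
  haveI : Fact (Nat.Prime 2) := ⟨Nat.prime_two⟩
  by_cases hn : (P : Subgroup G).Normal
  · obtain ⟨h1, h2⟩ := rank_normal h hn hO hM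
    exact ⟨h1, .inl h2⟩
  by_cases h3 : PRankLE 2 2 (P : Subgroup G)
  · obtain ⟨h1, h2⟩ := h.rank_small hn hO hM h3
    exact ⟨h1, .inr h2⟩
  · obtain ⟨h1, h2⟩ := h.rank_large hn hO hM h3
    exact ⟨h1, .inr h2⟩

end Cfsg.Agent.Block.AbTwo
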