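import Cfsg.Agent.Lib.Block.AbelianTwo.Core
import Cfsg.Agent.Lib.Fus.ZStarCenter
import Cfsg.Agent.Lib.Grp.Frattini
import Cfsg.Agent.S4571

/-!
The principal 2-block for an abelian Sylow subgroup with abelian semi-free automizer: the rank is
the inertial index.
-/

set_option autoImplicit false
set_option linter.unusedSectionVars false
set_option linter.style.haveILetI false

namespace Cfsg.Agent.Block.AbTwo

open Cfsg Cfsg.Agent.Block Cfsg.Agent.Char.BP Cfsg.Agent.Char.SecInner Cfsg.Agent.Transfer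

universe u

variable {G : Type u} [Group G] [Finite G] {M : Ideal AlgInt} {P : Sylow 2 G}

theorem eq_one_of_mem_core {w : G} (hw : w ∈ (P : Subgroup G)) (hO : w ∈ pPrimeCore 2 G) :
    w = 1 := by
  haveI : Fact (Nat.Prime 2) := ⟨Nat.prime_two⟩
  obtain ⟨j, hj⟩ := IsPGroup.iff_orderOf.1 P.isPGroup' ⟨w, hw⟩
  rw [Subgroup.orderOf_mk] at hj
  have h2 : orderOf w ∣ Nat.card (pPrimeCore 2 G) := by
    rw [← Subgroup.orderOf_mk w hO]; exact orderOf_dvd_natCard _
  rcases Nat.eq_zero_or_pos j with rfl | hj0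
  · exact orderOf_eq_one_iff.1 (by simpa using hj)
  · exact absurd ((dvd_pow_self 2 hj0.ne').trans (hj ▸ h2)) Grp.pPrimeCore_not_dvd

/-- The free case. -/
theorem Free.main (h : Free P) (hM : IsPModular 2 M) :
    blockRank 2 (principalBlock M G) = idx P ∧
      (Group.IsSolvable G ∨ Nat.card (P : Subgroup G) = idx P + 1) := by
  haveI : Fact (Nat.Prime 2) := ⟨Nat.prime_two⟩
  haveI hn : (pPrimeCore 2 G).Normal := Grp.pPrimeCore_isNormal
  set π := QuotientGroup.mk' (pPrimeCore 2 G)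
  have hπ : Function.Surjective π := QuotientGroup.mk'_surjective _
  have hker : ∀ n ∈ NS P, ∀ v ∈ (P : Subgroup G), π (n * v * n⁻¹) = π v → n * v * n⁻¹ = v := by
    intro n hn v hv e
    exact (inv_mul_eq_one.1 (eq_one_of_mem_core (mul_mem (inv_mem hv) (NS_mem hn hv))
      (QuotientGroup.eq.1 e.symm))).symm
  have hfree := h.toSemi.map hπ hker fun v hv => by
    rw [h.fixF_eq_bot, Subgroup.mem_bot] at hv
    rw [hv, map_one]
  obtain ⟨h1, h2⟩ := hfree.rank_core Grp.pPrimeCore_quotient_eq_bot hM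
  rw [idx_map hπ hker] at h1 h2
  refine ⟨(rank_quotient hM _ Grp.pPrimeCore_not_dvd).trans h1, h2.imp (fun hs => ?_) fun hc => ?_⟩
  · haveI := hs
    haveI : Group.IsSolvable (pPrimeCore 2 G) :=
      Cfsg.Agent.S0205.result (Nat.coprime_two_right.1 Grp.pPrimeCore_coprime)
    exact Group.isSolvable_of_ker_le_range (pPrimeCore 2 G).subtype π
      (by rw [Subgroup.range_subtype, QuotientGroup.ker_mk'])
  · rw [← hc]
    show _ = Nat.card ((P : Subgroup G).map π)
    let f : (P : Subgroup G) →* (P : Subgroup G).map π := π.subgroupMap (P : Subgroup G)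
    refine Nat.card_eq_of_bijective f ⟨fun a b e => ?_, MonoidHom.subgroupMap_surjective _ _⟩
    exact Subtype.ext (inv_mul_eq_one.1 (eq_one_of_mem_core (mul_mem (inv_mem a.2) b.2)
      (QuotientGroup.eq.1 (congrArg Subtype.val e))))

/-- The general semi-free case. -/
theorem Semi.main (h : Semi P) (hM : IsPModular 2 M) :
    blockRank 2 (principalBlock M G) = idx P ∧
      (Group.IsSolvable G ∨ Nat.card (P : Subgroup G) = Nat.card (fixF P) * (idx P + 1)) := by
  classical
  haveI : Fact (Nat.Prime 2) := ⟨Nat.prime_two⟩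
  haveI : (pPrimeCore 2 G).Normal := Grp.pPrimeCore_isNormal
  set π₁ := QuotientGroup.mk' (pPrimeCore 2 G)
  set F₁ : Subgroup (G ⧸ pPrimeCore 2 G) := (fixF P).map π₁ with hF₁
  have hFc : F₁ ≤ Subgroup.center _ := by
    rintro _ ⟨f, hf, rfl⟩
    obtain ⟨hfP, hffix⟩ := mem_fixF.1 hf
    refine Subgroup.mem_center_iff.2 fun x => ?_
    obtain ⟨g, rfl⟩ := QuotientGroup.mk'_surjective (pPrimeCore 2 G) x
    have hiso : Fus.IsoElt P f := ⟨hfP, fun g hg => by
      obtain ⟨n, hn, hne⟩ := exists_normalizer_conj_of_abelian P h.comm hfP (g := g) hg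
      rw [← hne, hffix n hn]⟩
    have h1 := (QuotientGroup.eq_one_iff _).2 (Fus.IsoElt.commutator_mem _ G rfl P f hiso g)
    have h2 : π₁ (f * g * f⁻¹ * g⁻¹) = 1 := h1
    rw [map_mul, map_mul, map_mul, map_inv, map_inv, mul_inv_eq_one, mul_inv_eq_iff_eq_mul] at h2
    exact h2.symm
  haveI : F₁.Normal := ⟨fun x hx y => by
    rw [Subgroup.mem_center_iff.1 (hFc hx) y, mul_inv_cancel_right]; exact hx⟩
  set π := (QuotientGroup.mk' F₁).comp π₁ with hπd
  have hπ : Function.Surjective π :=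
    (QuotientGroup.mk'_surjective _).comp (QuotientGroup.mk'_surjective _)
  have hkerP : ∀ w ∈ (P : Subgroup G), π w = 1 → w ∈ fixF P := by
    intro w hw e
    obtain ⟨f, hf, hfe⟩ : π₁ w ∈ F₁ := (QuotientGroup.eq_one_iff _).1 e
    have : f⁻¹ * w = 1 := eq_one_of_mem_core
      (mul_mem (inv_mem (mem_fixF.1 hf).1) hw) (QuotientGroup.eq.1 hfe)
    rwa [← inv_mul_eq_one.1 this]
  have hker : ∀ n ∈ NS P, ∀ v ∈ (P : Subgroup G), π (n * v * n⁻¹) = π v → n * v * n⁻¹ = v := by
    intro n hn v hv e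
    set f := v⁻¹ * (n * v * n⁻¹) with hf
    have hfF : f ∈ fixF P := hkerP f (mul_mem (inv_mem hv) (NS_mem hn hv))
      (by rw [hf, map_mul, map_inv, e, inv_mul_cancel])
    obtain ⟨hfP, hffix⟩ := mem_fixF.1 hfF
    have hnv : n * v * n⁻¹ = v * f := by rw [hf]; group
    have hiter : ∀ m : ℕ, n ^ m * v * (n ^ m)⁻¹ = v * f ^ m := by
      intro m
      induction m with
      | zero => simp
      | succ m ih =>
        calc n ^ (m + 1) * v * (n ^ (m + 1))⁻¹ = n * (n ^ m * v * (n ^ m)⁻¹) * n⁻¹ := by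
              rw [pow_succ']; group
          _ = n * v * n⁻¹ * (n * f ^ m * n⁻¹) := by rw [ih]; group
          _ = v * f * f ^ m := by rw [hnv, ← conj_pow, hffix n hn]
          _ = v * f ^ (m + 1) := by rw [mul_assoc, ← pow_succ']
    haveI : ((CS P).subgroupOf (NS P)).Normal := ⟨fun c hc m => mem_CS_of_fix fun w hw => by
      have h1 := CS_fix hc (NS_mem (inv_mem m.2) hw)
      simp only [Subgroup.coe_mul, Subgroup.coe_inv, Subgroup.coe_subtype, inv_inv] at h1 ⊢
      calc (m : G) * c * (m : G)⁻¹ * w * ((m : G) * c * (m : G)⁻¹)⁻¹ =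
            (m : G) * ((c : G) * ((m : G)⁻¹ * w * (m : G)) * (c : G)⁻¹) * (m : G)⁻¹ := by group
        _ = w := by rw [h1]; group⟩
    have hne : n ^ idx P ∈ CS P :=
      Subgroup.pow_index_mem ((CS P).subgroupOf (NS P)) ⟨n, hn⟩
    have hfe : f ^ idx P = 1 := by
      have := hiter (idx P)
      rw [CS_fix hne hv] at this
      exact left_eq_mul.1 this
    obtain ⟨j, hj⟩ := (IsPGroup.iff_orderOf.1 P.isPGroup' ⟨f, hfP⟩)
    have hf1 : f = 1 := orderOf_eq_one_iff.1 (Nat.eq_one_of_dvd_coprimes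
      ((((Fact.out : Nat.Prime 2).coprime_iff_not_dvd).2 h.idx_not_dvd).pow_left j)
      (by rw [← hj, Subgroup.orderOf_mk]) (orderOf_dvd_of_pow_eq_one hfe))
    rw [hnv, hf1, mul_one]
  have hfix : ∀ v ∈ fixF P, π v = 1 := fun v hv =>
    (QuotientGroup.eq_one_iff _).2 ⟨v, hv, rfl⟩
  have hfree := h.map hπ hker hfix
  obtain ⟨h1, h2⟩ := hfree.main hM
  rw [idx_map hπ hker] at h1 h2
  refine ⟨?_, h2.imp (fun hs => ?_) fun hc => ?_⟩
  · have hFp : IsPGroup 2 F₁ := (P.isPGroup'.to_le inf_le_left).map _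
    have hsup : F₁ ⊔ Subgroup.centralizer (F₁ : Set (G ⧸ pPrimeCore 2 G)) = ⊤ :=
      eq_top_iff.2 fun x _ => Subgroup.mem_sup_right (Subgroup.mem_centralizer_iff.2 fun y hy =>
        (Subgroup.mem_center_iff.1 (hFc hy) x).symm)
    rw [rank_quotient hM _ Grp.pPrimeCore_not_dvd,
      Cfsg.Agent.S4571.result 2 M hM F₁ hFp hsup, h1]
  · haveI := hs
    haveI : Group.IsSolvable (pPrimeCore 2 G) :=
      Cfsg.Agent.S0205.result (Nat.coprime_two_right.1 Grp.pPrimeCore_coprime)
    haveI : Group.IsSolvable F₁ := Group.isSolvable_of_comm fun a b => Subtype.ext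
      (Subgroup.mem_center_iff.1 (hFc b.2) a)
    haveI : Group.IsSolvable (G ⧸ pPrimeCore 2 G) := Group.isSolvable_of_ker_le_range F₁.subtype
      (QuotientGroup.mk' F₁) (by rw [Subgroup.range_subtype, QuotientGroup.ker_mk'])
    exact Group.isSolvable_of_ker_le_range (pPrimeCore 2 G).subtype π₁
      (by rw [Subgroup.range_subtype, QuotientGroup.ker_mk'])
  · let f : (P : Subgroup G) →* (P : Subgroup G).map π := π.subgroupMap (P : Subgroup G)
    have hk : f.ker = (fixF P).subgroupOf (P : Subgroup G) := by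
      ext w
      rw [MonoidHom.mem_ker, Subgroup.mem_subgroupOf]
      exact ⟨fun e => hkerP w w.2 (congrArg Subtype.val e), fun hw => Subtype.ext (hfix w hw)⟩
    have hfix_le : fixF P ≤ (P : Subgroup G) := inf_le_left
    rw [← f.ker.card_mul_index, Subgroup.index_ker,
      MonoidHom.range_eq_top.2 (MonoidHom.subgroupMap_surjective _ _), Subgroup.card_top, hk,
      Nat.card_congr (Subgroup.subgroupOfEquivOfLe hfix_le).toEquiv, ← hc]
    rfl

/-- The count of the principal block. -/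
theorem Semi.card_principal (h : Semi P) (hM : IsPModular 2 M) :
    Nat.card (principalBlock M G) * idx P + Nat.card (fixF P) =
      idx P * idx P * Nat.card (fixF P) + Nat.card (P : Subgroup G) := by
  classical
  haveI : Fact (Nat.Prime 2) := ⟨Nat.prime_two⟩
  cases nonempty_fintype G
  rw [h.count hM, Finset.sum_congr rfl (g := fun _ => idx P) fun v hv => ?_, Finset.sum_const,
    smul_eq_mul, Nat.card_eq_fintype_card (α := fixF P), ← Fintype.card_subtype]
  · ring
  · have hv' : v ∈ fixF P := (Finset.mem_filter.1 hv).2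
    have hPC : (P : Subgroup G) ≤ Subgroup.centralizer ({v} : Set G) := fun w hw =>
      Subgroup.mem_centralizer_singleton_iff.2 (h.mul_comm' hw (mem_fixF.1 hv').1)
    rw [((h.subtype hPC hv').main hM).1, idx_subtype hPC hv']

end Cfsg.Agent.Block.AbTwo
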