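import Cfsg.Agent.Lib.Block.AbelianTwo.Setup
import Cfsg.Agent.Lib.Block.PrincipalColumn
import Cfsg.Agent.Lib.Block.QuotientBlocks
import Cfsg.Agent.Lib.Block.Elementary
import Cfsg.Agent.Lib.Char.Complete
import Cfsg.Agent.Lib.Grp.Cores

/-!
A normal abelian Sylow subgroup with free abelian automizer and trivial `p'`-core.
-/

set_option autoImplicit false
set_option linter.unusedSectionVars false
set_option linter.style.haveILetI false

namespace Cfsg.Agent.Block.AbTwo

open Cfsg Cfsg.Agent.Block Cfsg.Agent.Char.SecInner Cfsg.Agent.Transfer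

universe u

variable {G : Type u} [Group G] [Finite G] {p : ℕ} [Fact p.Prime] {M : Ideal AlgInt}
  {P : Sylow p G}

/-- The centralizer of a normal abelian Sylow subgroup is itself when the `p'`-core is trivial. -/
theorem CS_eq_self (h : Semi P) (hn : (P : Subgroup G).Normal) (hO : pPrimeCore p G = ⊥) :
    CS P = (P : Subgroup G) := by
  haveI := hn
  haveI : (CS P).Normal := Subgroup.normal_centralizer
  have hc : HasNormalPComplement p (CS P) := by
    refine hasNormalPComplement_of_control (P.subtype h.le_CS) fun x hx y _ ⟨g, hg⟩ => ?_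
    refine ⟨1, one_mem _, ?_⟩
    rw [← hg, one_mul, inv_one, mul_one]
    exact Subtype.ext (CS_fix g.2 hx).symm
  obtain ⟨N, hN, hd, k, hk⟩ := hasNormalPComplement_iff_exists.1 hc
  have hNbot : N = ⊥ := by
    have h1 : N ≤ pPrimeCore p (CS P) :=
      Grp.le_pPrimeCore hN ((Fact.out : p.Prime).coprime_iff_not_dvd.2 hd).symm
    have h2 := (Subgroup.map_mono (f := (CS P).subtype) h1).trans
      ((Grp.pPrimeCore_map_eq (p := p) (CS P)).le.trans inf_le_left)
    rw [hO, le_bot_iff, Subgroup.map_eq_bot_iff_of_injective _ (Subgroup.subtype_injective _)] at h2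
    exact h2
  rw [hNbot, Subgroup.index_bot] at hk
  exact (P.3 (IsPGroup.of_card hk) h.le_CS)

theorem NS_eq_top (hn : (P : Subgroup G).Normal) : NS P = ⊤ :=
  Subgroup.normalizer_eq_top_iff.2 hn

/-- The rank of the principal block. -/
theorem rank_normal (h : Free P) (hn : (P : Subgroup G).Normal) (hO : pPrimeCore p G = ⊥)
    (hM : IsPModular p M) :
    blockRank p (principalBlock M G) = idx P ∧ Group.IsSolvable G := by
  classical
  haveI := hn
  cases nonempty_fintype G
  have hC := CS_eq_self h.toSemi hn hO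
  have hN := NS_eq_top hn
  have hidx : idx P = (P : Subgroup G).index := by
    rw [idx, hC, hN, Subgroup.relIndex_top_right]
  have hcommQ : ∀ x y : G ⧸ (P : Subgroup G), x * y = y * x := by
    intro x y
    obtain ⟨a, rfl⟩ := QuotientGroup.mk_surjective x
    obtain ⟨b, rfl⟩ := QuotientGroup.mk_surjective y
    have h1 := h.quot a (hN ▸ Subgroup.mem_top a) b (hN ▸ Subgroup.mem_top b)
    rw [hC] at h1
    have h2 := (QuotientGroup.eq_one_iff _).2 h1
    rw [QuotientGroup.mk_mul, QuotientGroup.mk_mul, QuotientGroup.mk_mul, QuotientGroup.mk_inv,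
      QuotientGroup.mk_inv, mul_inv_eq_one, mul_inv_eq_iff_eq_mul] at h2
    exact h2
  refine ⟨?_, ?_⟩
  swap
  · haveI := h.comm
    haveI : Group.IsSolvable (P : Subgroup G) :=
      Group.isSolvable_of_comm fun a b => h.comm.is_comm.comm a b
    haveI : Group.IsSolvable (G ⧸ (P : Subgroup G)) := Group.isSolvable_of_comm hcommQ
    exact Group.isSolvable_of_ker_le_range (P : Subgroup G).subtype
      (QuotientGroup.mk' (P : Subgroup G)) (by rw [Subgroup.range_subtype, QuotientGroup.ker_mk'])
  letI := Fintype.ofFinite (G ⧸ (P : Subgroup G))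
  -- regular lifts
  have hlift : ∀ x : G ⧸ (P : Subgroup G), ∃ g : G, (g : G ⧸ (P : Subgroup G)) = x ∧
      ¬ p ∣ orderOf g := fun x => exists_regular_lift _ fun hd =>
    P.not_dvd_index (hd.trans ((orderOf_dvd_natCard x).trans
      (by rw [Subgroup.index_eq_card])))
  choose s hs hsr using hlift
  have hconst : ∀ (χ : IrrCharacter G) (g : G), ¬ p ∣ orderOf g →
      (χ : G → ℂ) g = (χ : G → ℂ) (s g) := by
    intro χ g hg
    have hdiff : g⁻¹ * s g ∈ (P : Subgroup G) := QuotientGroup.eq.1 (hs g).symm
    by_cases hgP : g ∈ (P : Subgroup G)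
    · have hone : ∀ a ∈ (P : Subgroup G), ¬ p ∣ orderOf a → a = 1 := fun a ha hd => by
        obtain ⟨j, hj⟩ := ppow_of_mem P ha
        rcases Nat.eq_zero_or_pos j with rfl | hj0
        · exact orderOf_eq_one_iff.1 (by simpa using hj)
        · exact absurd (hj ▸ dvd_pow_self p hj0.ne') hd
      have h1 := hone g hgP hg
      have h2 := hone (s g) (by simpa using mul_mem hgP hdiff) (hsr g)
      rw [h2, h1]
    · have hgN : g ∈ NS P := hN ▸ Subgroup.mem_top g
      let f : ↥(P : Subgroup G) → ↥(P : Subgroup G) := fun r =>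
        ⟨g⁻¹ * (r * g * (r : G)⁻¹), by
          rw [show g⁻¹ * ((r : G) * g * (r : G)⁻¹) = g⁻¹ * (r : G) * g⁻¹⁻¹ * (r : G)⁻¹ by group]
          exact mul_mem (NS_mem (inv_mem hgN) r.2) (inv_mem r.2)⟩
      have hinj : Function.Injective f := fun r r' e => by
        have e1 : (r : G) * g * (r : G)⁻¹ = r' * g * (r' : G)⁻¹ :=
          mul_left_cancel (congrArg Subtype.val e)
        have e2 : g * ((r' : G)⁻¹ * r) * g⁻¹ = (r' : G)⁻¹ * r := by
          calc g * ((r' : G)⁻¹ * r) * g⁻¹ =
              (r' : G)⁻¹ * ((r' : G) * g * (r' : G)⁻¹) * r * g⁻¹ := by group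
            _ = (r' : G)⁻¹ * r := by rw [← e1]; group
        have h1 : (r' : G)⁻¹ * r = 1 := by_contra fun hne =>
          hgP (hC ▸ h.free (mul_mem (inv_mem r'.2) r.2) hne g hgN e2)
        exact Subtype.ext (inv_mul_eq_one.1 h1).symm
      obtain ⟨r, hr⟩ := (Finite.injective_iff_surjective.1 hinj) ⟨_, hdiff⟩
      have hr' : (r : G) * g * (r : G)⁻¹ = s g := mul_left_cancel (congrArg Subtype.val hr)
      rw [← hr', irr_classFun χ g r]
  let L : (G ⧸ (P : Subgroup G) → ℂ) →ₗ[ℂ] (G → ℂ) :=
    { toFun := fun f g => if p ∣ orderOf g then 0 else f (g : G ⧸ (P : Subgroup G))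
      map_add' := fun f f' => funext fun g => by
        simp only [Pi.add_apply]; split_ifs <;> simp
      map_smul' := fun c f => funext fun g => by
        simp only [Pi.smul_apply, RingHom.id_apply]; split_ifs <;> simp }
  have hinj : Function.Injective L := fun a b e => funext fun q => by
    have := congrFun e (s q)
    simpa [L, hsr q, hs q] using this
  have hB : ∀ χ : IrrCharacter G, χ ∈ principalBlock M G := fun χ =>
    pblock_mem_of_sameBlock hM isPBlock_principalBlock (trivial_mem_principalBlock hM)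
      (single_block_of_centralizer hM (P : Subgroup G) P.isPGroup' hC.le _ χ)
  have hspan : Submodule.span ℂ ((fun χ : IrrCharacter G => pRegularPart p (χ : G → ℂ)) ''
      principalBlock M G) = LinearMap.range L := by
    refine le_antisymm (Submodule.span_le.2 ?_) ?_
    · rintro _ ⟨χ, -, rfl⟩
      refine ⟨fun q => (χ : G → ℂ) (s q), funext fun g => ?_⟩
      by_cases hg : p ∣ orderOf g
      · simp [L, pRegularPart, IsPRegular, hg]
      · simp [L, pRegularPart, IsPRegular, hg, ← hconst χ g hg]
    · rintro _ ⟨f, rfl⟩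
      have hf : IsClassFunction (G ⧸ (P : Subgroup G)) f := fun a b => by
        rw [show b * a * b⁻¹ = a by rw [hcommQ b a, mul_inv_cancel_right]]
      rw [Cfsg.Agent.Char.classFunction_expansion hf, map_sum]
      refine Submodule.sum_mem _ fun ψ _ => ?_
      rw [map_smul]
      refine Submodule.smul_mem _ _ (Submodule.subset_span ⟨PrinCol.infl ψ, hB _, funext fun g => ?_⟩)
      by_cases hg : p ∣ orderOf g <;> simp [L, pRegularPart, IsPRegular, hg, PrinCol.infl]
  rw [blockRank, hspan, LinearMap.finrank_range_of_inj hinj, Module.finrank_fintype_fun_eq_card,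
    hidx, Subgroup.index_eq_card, Nat.card_eq_fintype_card]

end Cfsg.Agent.Block.AbTwo
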