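import Cfsg.Agent.Lib.Char.SecTwoSixteen

/-!
Abelian Sylow subgroups whose automizer is abelian and acts semi-freely: transport along
surjections and to centralizers of fixed elements, and the count of the principal block.
-/

set_option autoImplicit false
set_option linter.unusedSectionVars false
set_option linter.style.haveILetI false

namespace Cfsg.Agent.Block.AbTwo

open Cfsg Cfsg.Agent.Char Cfsg.Agent.Char.BP Cfsg.Agent.Char.SecInner Cfsg.Agent.Transfer

universe u v

section Defs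

variable {G : Type u} [Group G] {p : ℕ}

/-- The normalizer of the Sylow subgroup. -/
abbrev NS (P : Sylow p G) : Subgroup G := Subgroup.normalizer ((P : Subgroup G) : Set G)

/-- The centralizer of the Sylow subgroup. -/
abbrev CS (P : Sylow p G) : Subgroup G := Subgroup.centralizer ((P : Subgroup G) : Set G)

/-- The inertial index. -/
noncomputable abbrev idx (P : Sylow p G) : ℕ := (CS P).relIndex (NS P)

/-- The fixed points of the normalizer. -/
def fixF (P : Sylow p G) : Subgroup G := (P : Subgroup G) ⊓ Subgroup.centralizer (NS P : Set G)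

theorem mem_fixF {P : Sylow p G} {v : G} :
    v ∈ fixF P ↔ v ∈ (P : Subgroup G) ∧ ∀ s ∈ NS P, s * v * s⁻¹ = v := by
  simp only [fixF, Subgroup.mem_inf, Subgroup.mem_centralizer_iff, mul_inv_eq_iff_eq_mul,
    SetLike.mem_coe]

/-- An abelian Sylow subgroup with nontrivial abelian automizer acting semi-freely. -/
structure Semi (P : Sylow p G) : Prop where
  comm : IsMulCommutative (P : Subgroup G)
  nontriv : ¬ NS P ≤ CS P
  quot : ∀ a ∈ NS P, ∀ b ∈ NS P, a * b * a⁻¹ * b⁻¹ ∈ CS P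
  fix : ∀ t ∈ NS P, t ∉ CS P → ∀ v ∈ (P : Subgroup G), t * v * t⁻¹ = v →
    ∀ s ∈ NS P, s * v * s⁻¹ = v

/-- The action is free. -/
structure Free (P : Sylow p G) : Prop extends Semi P where
  triv : ∀ v ∈ (P : Subgroup G), (∀ s ∈ NS P, s * v * s⁻¹ = v) → v = 1

variable {P : Sylow p G}

theorem Semi.mul_comm' (h : Semi P) {a b : G} (ha : a ∈ (P : Subgroup G))
    (hb : b ∈ (P : Subgroup G)) : a * b = b * a :=
  congrArg Subtype.val (h.comm.is_comm.comm ⟨a, ha⟩ ⟨b, hb⟩)

theorem Semi.le_CS (h : Semi P) : (P : Subgroup G) ≤ CS P := fun _ ha =>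
  Subgroup.mem_centralizer_iff.2 fun _ hb => h.mul_comm' hb ha

theorem CS_le_NS (P : Sylow p G) : CS P ≤ NS P := Subgroup.centralizer_le_normalizer _

theorem CS_fix {t v : G} (ht : t ∈ CS P) (hv : v ∈ (P : Subgroup G)) : t * v * t⁻¹ = v :=
  mul_inv_eq_iff_eq_mul.2 (Subgroup.mem_centralizer_iff.1 ht v hv).symm

theorem NS_mem {t v : G} (ht : t ∈ NS P) (hv : v ∈ (P : Subgroup G)) :
    t * v * t⁻¹ ∈ (P : Subgroup G) := (Subgroup.mem_set_normalizer_iff.1 ht v).1 hv

theorem mem_CS_of_fix {t : G} (h : ∀ v ∈ (P : Subgroup G), t * v * t⁻¹ = v) : t ∈ CS P :=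
  Subgroup.mem_centralizer_iff.2 fun v hv => (mul_inv_eq_iff_eq_mul.1 (h v hv)).symm

theorem Semi.idx_ne_one (h : Semi P) : idx P ≠ 1 := fun e =>
  h.nontriv (Subgroup.relIndex_eq_one.1 e)

theorem Semi.idx_not_dvd [Finite G] [Fact p.Prime] (h : Semi P) : ¬ p ∣ idx P := fun hd => by
  refine P.not_dvd_index (hd.trans ?_)
  have h1 := Subgroup.relIndex_mul_relIndex (P : Subgroup G) (CS P) (NS P) h.le_CS (CS_le_NS P)
  have h2 := Subgroup.relIndex_mul_index (H := (P : Subgroup G)) (K := NS P)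
    (h.le_CS.trans (CS_le_NS P))
  exact (Dvd.intro_left _ h1).trans (Dvd.intro _ h2)

theorem Semi.mem_fixF_of_fix (h : Semi P) {t v : G} (ht : t ∈ NS P) (htC : t ∉ CS P)
    (hv : v ∈ (P : Subgroup G)) (e : t * v * t⁻¹ = v) : v ∈ fixF P :=
  mem_fixF.2 ⟨hv, h.fix t ht htC v hv e⟩

theorem Semi.free_out (h : Semi P) {v : G} (hv : v ∈ (P : Subgroup G)) (hvF : v ∉ fixF P) :
    ∀ t ∈ NS P, t * v * t⁻¹ = v → t ∈ CS P := fun _ ht e =>
  by_contra fun htC => hvF (h.mem_fixF_of_fix ht htC hv e)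

theorem Free.free (h : Free P) {v : G} (hv : v ∈ (P : Subgroup G)) (hv1 : v ≠ 1) :
    ∀ t ∈ NS P, t * v * t⁻¹ = v → t ∈ CS P :=
  h.toSemi.free_out hv fun hF => hv1 (h.triv v hv (mem_fixF.1 hF).2)

theorem Free.fixF_eq_bot (h : Free P) : fixF P = ⊥ :=
  (Subgroup.eq_bot_iff_forall _).2 fun _ hv => h.triv _ (mem_fixF.1 hv).1 (mem_fixF.1 hv).2

end Defs

section Map

variable {G : Type u} [Group G] [Finite G] {H : Type v} [Group H] {p : ℕ} [Fact p.Prime]
  {π : G →* H} (hπ : Function.Surjective π) {P : Sylow p G}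

include hπ

/-- The normalizer of the image of a Sylow subgroup. -/
theorem exists_NS_lift {t : H} (ht : t ∈ NS (P.mapSurjective hπ)) :
    ∃ n ∈ NS P, π n = t := by
  obtain ⟨g, rfl⟩ := hπ t
  set X : Subgroup G := (P : Subgroup G) ⊔ π.ker with hX
  have hP : (P : Subgroup G) ≤ X := le_sup_left
  have hgP : ∀ v ∈ (P : Subgroup G), g * v * g⁻¹ ∈ X := fun v hv => by
    have h1 : π g * π v * (π g)⁻¹ ∈ ((P.mapSurjective hπ : Sylow p H) : Subgroup H) :=
      NS_mem ht (by rw [Sylow.coe_mapSurjective]; exact ⟨v, hv, rfl⟩)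
    rw [Sylow.coe_mapSurjective] at h1
    obtain ⟨w, hw, hwe⟩ := h1
    rw [show g * v * g⁻¹ = w * (w⁻¹ * (g * v * g⁻¹)) by group]
    refine mul_mem (hP hw) (Subgroup.mem_sup_right ?_)
    rw [MonoidHom.mem_ker, map_mul, map_inv, map_mul, map_mul, map_inv, ← hwe, inv_mul_cancel]
  have hgX : ((g • P : Sylow p G) : Subgroup G) ≤ X := by
    rintro _ ⟨v, hv, rfl⟩
    exact hgP v hv
  obtain ⟨k, hk⟩ := MulAction.exists_smul_eq X ((g • P).subtype hgX) (P.subtype hP)
  rw [Sylow.smul_subtype hgX] at hk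
  replace hk := Sylow.subtype_injective hk
  have hN : (k : G) * g ∈ NS P := by
    refine Sylow.smul_eq_iff_mem_normalizer.1 ?_
    rw [mul_smul]
    exact hk
  obtain ⟨a, ha, b, hb, hab⟩ := Subgroup.mem_sup_of_normal_right.1 (show (k : G) ∈ _ from k.2)
  refine ⟨a⁻¹ * ((k : G) * g), mul_mem (inv_mem (Subgroup.le_normalizer ha)) hN, ?_⟩
  rw [← hab, map_mul, map_mul, map_mul, map_inv, MonoidHom.mem_ker.1 hb]
  group

omit [Finite G] in
theorem map_mem_NS {n : G} (hn : n ∈ NS P) [Finite G] : π n ∈ NS (P.mapSurjective hπ) := by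
  refine Subgroup.mem_set_normalizer_iff.2 fun w => ?_
  rw [SetLike.mem_coe, SetLike.mem_coe, Sylow.coe_mapSurjective]
  constructor
  · rintro ⟨v, hv, rfl⟩
    exact ⟨n * v * n⁻¹, NS_mem hn hv, by simp⟩
  · rintro ⟨v, hv, hve⟩
    exact ⟨n⁻¹ * v * n, (congrArg (fun z => n⁻¹ * v * z) (inv_inv n)) ▸ NS_mem (inv_mem hn) hv,
      by simp only [map_mul, map_inv, hve]; group⟩

variable (hker : ∀ n ∈ NS P, ∀ v ∈ (P : Subgroup G), π (n * v * n⁻¹) = π v → n * v * n⁻¹ = v)

include hker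

theorem comap_CS_inf : (CS (P.mapSurjective hπ)).comap π ⊓ NS P = CS P := by
  refine le_antisymm (fun n hn => mem_CS_of_fix fun v hv => hker n hn.2 v hv ?_)
    (le_inf (fun n hn => mem_CS_of_fix ?_) (CS_le_NS P))
  · rw [map_mul, map_mul, map_inv]
    exact CS_fix hn.1 (by rw [Sylow.coe_mapSurjective]; exact ⟨v, hv, rfl⟩)
  · intro w hw
    rw [Sylow.coe_mapSurjective] at hw
    obtain ⟨v, hv, rfl⟩ := hw
    rw [← map_inv, ← map_mul, ← map_mul, CS_fix hn hv]

theorem idx_map : idx (P.mapSurjective hπ) = idx P := by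
  have hNS : NS (P.mapSurjective hπ) = (NS P).map π := le_antisymm
    (fun t ht => exists_NS_lift hπ ht) (by rintro _ ⟨n, hn, rfl⟩; exact map_mem_NS hπ hn)
  conv_rhs => rw [idx, ← comap_CS_inf hπ hker, Subgroup.inf_relIndex_right, Subgroup.relIndex_comap,
    ← hNS]

/-- The image of a semi-free Sylow subgroup is free when the fixed points die. -/
theorem Semi.map (h : Semi P) (hfix : ∀ v ∈ fixF P, π v = 1) :
    Free (P.mapSurjective hπ) := by
  have hC : ∀ n ∈ CS P, π n ∈ CS (P.mapSurjective hπ) := fun n hn =>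
    ((comap_CS_inf hπ hker).ge hn).1
  refine ⟨⟨?_, fun hle => h.idx_ne_one ?_, ?_, ?_⟩, ?_⟩
  · refine ⟨⟨fun a b => Subtype.ext ?_⟩⟩
    have ha := a.2; have hb := b.2
    simp only [Sylow.coe_mapSurjective] at ha hb
    obtain ⟨x, hx, hxe⟩ := ha
    obtain ⟨y, hy, hye⟩ := hb
    show (a : H) * b = b * a
    rw [← hxe, ← hye, ← map_mul, ← map_mul, h.mul_comm' hx hy]
  · rw [← idx_map hπ hker]; exact Subgroup.relIndex_eq_one.2 hle
  · intro a ha b hb
    obtain ⟨x, hx, rfl⟩ := exists_NS_lift hπ ha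
    obtain ⟨y, hy, rfl⟩ := exists_NS_lift hπ hb
    simpa using hC _ (h.quot x hx y hy)
  · intro t ht htC w hw e s hs
    obtain ⟨n, hn, rfl⟩ := exists_NS_lift hπ ht
    rw [Sylow.coe_mapSurjective] at hw
    obtain ⟨v, hv, rfl⟩ := hw
    have e' := hker n hn v hv (by rw [map_mul, map_mul, map_inv]; exact e)
    have := hfix v (h.mem_fixF_of_fix hn (fun hc => htC (hC n hc)) hv e')
    rw [this, mul_one, mul_inv_cancel]
  · intro w hw hall
    rw [Sylow.coe_mapSurjective] at hw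
    obtain ⟨v, hv, rfl⟩ := hw
    exact hfix v (mem_fixF.2 ⟨hv, fun s hs => hker s hs v hv (by
      rw [map_mul, map_mul, map_inv]; exact hall _ (map_mem_NS hπ hs))⟩)

end Map

section Cent

variable {G : Type u} [Group G] {p : ℕ} {P : Sylow p G} {v : G}
  (hPC : (P : Subgroup G) ≤ Subgroup.centralizer ({v} : Set G))

theorem mem_NS_subtype {x : Subgroup.centralizer ({v} : Set G)} :
    x ∈ NS (P.subtype hPC) ↔ (x : G) ∈ NS P := by
  simp only [NS, Subgroup.mem_set_normalizer_iff, SetLike.mem_coe, Sylow.coe_subtype,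
    Subgroup.mem_subgroupOf, Subgroup.coe_mul, Subgroup.coe_inv]
  refine ⟨fun h a => ⟨fun ha => (h ⟨a, hPC ha⟩).1 ha, fun ha => ?_⟩, fun h a => h a⟩
  have hm : a ∈ Subgroup.centralizer ({v} : Set G) := by
    simpa [mul_assoc] using mul_mem (mul_mem (inv_mem x.2) (hPC ha)) x.2
  exact (h ⟨a, hm⟩).2 ha

theorem mem_CS_subtype {x : Subgroup.centralizer ({v} : Set G)} :
    x ∈ CS (P.subtype hPC) ↔ (x : G) ∈ CS P := by
  simp only [CS, Subgroup.mem_centralizer_iff, SetLike.mem_coe, Sylow.coe_subtype,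
    Subgroup.mem_subgroupOf]
  exact ⟨fun h a ha => congrArg Subtype.val (h ⟨a, hPC ha⟩ ha),
    fun h a ha => Subtype.ext (h _ ha)⟩

variable (hv : v ∈ fixF P)

include hv

theorem NS_le_cent : NS P ≤ Subgroup.centralizer ({v} : Set G) := fun _ hn =>
  Subgroup.mem_centralizer_singleton_iff.2 (mul_inv_eq_iff_eq_mul.1 ((mem_fixF.1 hv).2 _ hn))

theorem mem_fixF_subtype {x : Subgroup.centralizer ({v} : Set G)} :
    x ∈ fixF (P.subtype hPC) ↔ (x : G) ∈ fixF P := by
  rw [mem_fixF, mem_fixF]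
  simp only [Sylow.coe_subtype, Subgroup.mem_subgroupOf]
  refine and_congr_right fun _ => ⟨fun h s hs => ?_, fun h s hs => ?_⟩
  · exact congrArg Subtype.val (h ⟨s, NS_le_cent hv hs⟩ ((mem_NS_subtype hPC).2 hs))
  · exact Subtype.ext (h s ((mem_NS_subtype hPC).1 hs))

theorem idx_subtype : idx (P.subtype hPC) = idx P := by
  have h1 : CS (P.subtype hPC) = (CS P).subgroupOf _ :=
    Subgroup.ext fun x => mem_CS_subtype hPC
  have h2 : NS (P.subtype hPC) = (NS P).subgroupOf _ :=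
    Subgroup.ext fun x => mem_NS_subtype hPC
  rw [idx, h1, h2, Subgroup.relIndex_subgroupOf (NS_le_cent hv)]

theorem Semi.subtype (h : Semi P) : Semi (P.subtype hPC) := by
  refine ⟨⟨⟨fun a b => Subtype.ext (Subtype.ext (h.mul_comm' a.2 b.2))⟩⟩,
    fun hle => h.idx_ne_one (idx_subtype hPC hv ▸ Subgroup.relIndex_eq_one.2 hle), ?_, ?_⟩
  · intro a ha b hb
    rw [mem_CS_subtype]
    exact h.quot _ ((mem_NS_subtype hPC).1 ha) _ ((mem_NS_subtype hPC).1 hb)
  · intro t ht htC w hw e s hs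
    exact Subtype.ext (h.fix t ((mem_NS_subtype hPC).1 ht) (fun hc => htC ((mem_CS_subtype hPC).2 hc))
      w hw (congrArg Subtype.val e) s ((mem_NS_subtype hPC).1 hs))

end Cent

section Count

variable {G : Type u} [Group G] [Fintype G] {p : ℕ} [Fact p.Prime] {M : Ideal AlgInt}
  {P : Sylow p G}

theorem cnum_of_fix (h : Semi P) {v : G} (hv : v ∈ fixF P) : cnum P v = 1 := by
  classical
  rw [cnum, Finset.card_eq_one]
  refine ⟨v, Finset.ext fun w => ?_⟩
  simp only [Finset.mem_filter, Finset.mem_univ, true_and, Finset.mem_singleton]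
  refine ⟨fun hw => ?_, ?_⟩
  · obtain ⟨g, hg⟩ := isConj_iff.1 hw.2
    obtain ⟨n, hn, hne⟩ := exists_normalizer_conj_of_abelian P h.comm (mem_fixF.1 hv).1
      (g := g) (by rw [hg]; exact hw.1)
    rw [← hg, ← hne, (mem_fixF.1 hv).2 n hn]
  · rintro rfl
    exact ⟨(mem_fixF.1 hv).1, IsConj.refl _⟩

theorem cnum_eq_of_free (hab : IsMulCommutative (P : Subgroup G)) {v : G}
    (hv : v ∈ (P : Subgroup G)) (hfree : ∀ t ∈ NS P, t * v * t⁻¹ = v → t ∈ CS P) :
    cnum P v = idx P := by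
  classical
  let O := Finset.univ.filter fun w : G => w ∈ (P : Subgroup G) ∧ IsConj v w
  have hmem : ∀ n : NS P, (n : G) * v * (n : G)⁻¹ ∈ O := fun n =>
    Finset.mem_filter.2 ⟨Finset.mem_univ _, NS_mem n.2 hv, isConj_iff.2 ⟨n, rfl⟩⟩
  let f : NS P ⧸ (CS P).subgroupOf (NS P) → O := fun q =>
    Quotient.liftOn' q (fun n => ⟨_, hmem n⟩) fun a b hab' => Subtype.ext (by
      rw [QuotientGroup.leftRel_apply, Subgroup.mem_subgroupOf] at hab'
      have := CS_fix hab' hv
      show (a : G) * v * (a : G)⁻¹ = b * v * (b : G)⁻¹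
      conv_lhs => rw [← this]
      simp [mul_assoc])
  have hf : Function.Bijective f := by
    constructor
    · refine fun x y => Quotient.inductionOn₂' x y fun a b e => Quotient.sound' ?_
      rw [QuotientGroup.leftRel_apply, Subgroup.mem_subgroupOf]
      refine hfree _ ((a⁻¹ * b : NS P).2) ?_
      have e' : (a : G) * v * (a : G)⁻¹ = b * v * (b : G)⁻¹ := congrArg Subtype.val e
      show ((a : G)⁻¹ * b) * v * ((a : G)⁻¹ * b)⁻¹ = v
      calc ((a : G)⁻¹ * b) * v * ((a : G)⁻¹ * b)⁻¹ = (a : G)⁻¹ * (b * v * (b : G)⁻¹) * a := by group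
        _ = v := by rw [← e']; group
    · rintro ⟨w, hw⟩
      obtain ⟨-, hwP, hc⟩ := Finset.mem_filter.1 hw
      obtain ⟨g, hg⟩ := isConj_iff.1 hc
      obtain ⟨n, hn, hne⟩ := exists_normalizer_conj_of_abelian P hab hv (g := g)
        (by rw [hg]; exact hwP)
      exact ⟨Quotient.mk'' ⟨n, hn⟩, Subtype.ext (hne.trans hg)⟩
  show O.card = _
  rw [← Nat.card_eq_finsetCard, ← Nat.card_eq_of_bijective f hf]
  rfl

open Classical in
/-- The count of the principal block. -/
theorem Semi.count (h : Semi P) (hM : IsPModular p M) :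
    Nat.card (principalBlock M G) * idx P + Nat.card (fixF P) =
      idx P * ∑ f ∈ Finset.univ.filter (fun v : G => v ∈ fixF P),
        blockRank p (principalBlock M (Subgroup.centralizer ({f} : Set G))) +
      Nat.card (P : Subgroup G) := by
  classical
  set Pf := Finset.univ.filter (fun v : G => v ∈ (P : Subgroup G))
  set Ff := Finset.univ.filter (fun v : G => v ∈ fixF P)
  have he : (idx P : ℂ) ≠ 0 := Nat.cast_ne_zero.2 (Subgroup.index_ne_zero_of_finite)
  have hsub : Ff ⊆ Pf := fun v hv => Finset.mem_filter.2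
    ⟨Finset.mem_univ _, (mem_fixF.1 (Finset.mem_filter.1 hv).2).1⟩
  have hk := card_eq_traces hM P (M := M)
  have hout : ∀ v ∈ Pf \ Ff,
      (blockRank p (principalBlock M (Subgroup.centralizer ({v} : Set G))) : ℂ) / (cnum P v : ℂ) =
        (1 : ℂ) / (idx P : ℂ) := by
    intro v hv
    obtain ⟨hvP, hvF⟩ := Finset.mem_sdiff.1 hv
    simp only [Pf, Ff, Finset.mem_filter, Finset.mem_univ, true_and] at hvP hvF
    rw [cnum_eq_of_free h.comm hvP (h.free_out hvP hvF),
      rank_one_of_complement hM (complement_cent P h.comm hvP fun t ht e =>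
        h.free_out hvP hvF t ht e), Nat.cast_one]
  have hin : ∀ v ∈ Ff,
      (blockRank p (principalBlock M (Subgroup.centralizer ({v} : Set G))) : ℂ) / (cnum P v : ℂ) =
        (blockRank p (principalBlock M (Subgroup.centralizer ({v} : Set G))) : ℂ) := by
    intro v hv
    rw [cnum_of_fix h (Finset.mem_filter.1 hv).2, Nat.cast_one, div_one]
  rw [← Finset.sum_sdiff hsub, Finset.sum_congr rfl hout, Finset.sum_congr rfl hin,
    Finset.sum_const, nsmul_eq_mul, ← Nat.cast_sum] at hk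
  have hP : Nat.card (P : Subgroup G) = (Pf \ Ff).card + Ff.card := by
    rw [Finset.card_sdiff_add_card_eq_card hsub, Nat.card_eq_fintype_card]
    exact Fintype.card_of_subtype _ fun v => by simp [Pf]
  have hF : Nat.card (fixF P) = Ff.card := by
    rw [Nat.card_eq_fintype_card]
    exact Fintype.card_of_subtype _ fun v => by simp [Ff]
  rw [hP, hF]
  apply Nat.cast_injective (R := ℂ)
  push_cast at hk ⊢
  rw [hk]
  field_simp
  ring

end Count

end Cfsg.Agent.Block.AbTwo
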